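import Mathlib

set_option autoImplicit false
set_option linter.unusedSectionVars false
set_option linter.unusedVariables false
set_option linter.unusedSimpArgs false
set_option linter.style.haveILetI false
set_option maxHeartbeats 400000

/-!
# Hilbert functions of homogeneous ideals of a polynomial ring: additivity
-/

open MvPolynomial DirectSum

universe u v

noncomputable section

namespace Groth.Agent.Lib.Helper6.ProjDeg

variable {k : Type u} [Field k] {σ : Type v} [Finite σ] [GradedAlgebra (homogeneousSubmodule σ k)]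

/-- the degree `m` piece of an ideal, as a `k`-subspace -/
def piece (I : Ideal (MvPolynomial σ k)) (m : ℕ) : Submodule k (MvPolynomial σ k) :=
  Submodule.restrictScalars k I ⊓ homogeneousSubmodule σ k m

theorem mem_piece {I : Ideal (MvPolynomial σ k)} {m : ℕ} {x : MvPolynomial σ k} :
    x ∈ piece I m ↔ x ∈ I ∧ x ∈ homogeneousSubmodule σ k m := by
  rw [piece, Submodule.mem_inf, Submodule.restrictScalars_mem]

instance finite_homog (m : ℕ) : Module.Finite k (homogeneousSubmodule σ k m) :=
  Module.Finite.iff_fg.mpr (homogeneousSubmodule_fg σ k m)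

theorem piece_le (I : Ideal (MvPolynomial σ k)) (m : ℕ) :
    piece I m ≤ homogeneousSubmodule σ k m := inf_le_right

instance finite_piece (I : Ideal (MvPolynomial σ k)) (m : ℕ) : Module.Finite k (piece I m) :=
  Submodule.finiteDimensional_of_le (piece_le I m)

/-- the Hilbert function of `R/I` -/
def hq (I : Ideal (MvPolynomial σ k)) (m : ℕ) : ℚ :=
  (Module.finrank k (homogeneousSubmodule σ k m) : ℚ) - Module.finrank k (piece I m)

/-- the shifted Hilbert function -/
def hqs (I : Ideal (MvPolynomial σ k)) (ℓ m : ℕ) : ℚ := if ℓ ≤ m then hq I (m - ℓ) else 0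

theorem hq_nonneg (I : Ideal (MvPolynomial σ k)) (m : ℕ) : 0 ≤ hq I m := by
  unfold hq
  have := Submodule.finrank_mono (piece_le I m)
  rw [sub_nonneg]
  exact_mod_cast this

theorem hqs_nonneg (I : Ideal (MvPolynomial σ k)) (ℓ m : ℕ) : 0 ≤ hqs I ℓ m := by
  unfold hqs
  split_ifs
  · exact hq_nonneg _ _
  · exact le_rfl

theorem piece_mono {I J : Ideal (MvPolynomial σ k)} (h : I ≤ J) (m : ℕ) :
    piece I m ≤ piece J m := fun x hx => by
  rw [mem_piece] at hx ⊢
  exact ⟨h hx.1, hx.2⟩

theorem hq_anti {I J : Ideal (MvPolynomial σ k)} (h : I ≤ J) (m : ℕ) : hq J m ≤ hq I m := by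
  unfold hq
  have := Submodule.finrank_mono (piece_mono h m)
  have h2 : (Module.finrank k (piece I m) : ℚ) ≤ Module.finrank k (piece J m) := by
    exact_mod_cast this
  linarith

theorem hq_top (m : ℕ) : hq (⊤ : Ideal (MvPolynomial σ k)) m = 0 := by
  unfold hq
  have : piece (⊤ : Ideal (MvPolynomial σ k)) m = homogeneousSubmodule σ k m := by
    ext x
    rw [mem_piece]
    exact ⟨fun h => h.2, fun h => ⟨trivial, h⟩⟩
  rw [this, sub_self]

section Add

variable {I : Ideal (MvPolynomial σ k)} (hI : I.IsHomogeneous (homogeneousSubmodule σ k))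
  {z : MvPolynomial σ k} {ℓ : ℕ} (hz : z ∈ homogeneousSubmodule σ k ℓ)

include hI hz in
theorem piece_sup_of_le {m : ℕ} (hℓm : ℓ ≤ m) :
    piece (I ⊔ Ideal.span {z}) m =
      piece I m ⊔ (homogeneousSubmodule σ k (m - ℓ)).map (LinearMap.mulLeft k z) := by
  classical
  apply le_antisymm
  · intro x hx
    rw [mem_piece] at hx
    obtain ⟨a, ha, y, hy, rfl⟩ := Submodule.mem_sup.mp hx.1
    obtain ⟨r, rfl⟩ := Ideal.mem_span_singleton'.mp hy
    have h1 : (decompose (homogeneousSubmodule σ k) (a + r * z) m : MvPolynomial σ k) =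
        a + r * z := decompose_of_mem_same _ hx.2
    rw [decompose_add, DirectSum.add_apply, Submodule.coe_add,
      coe_decompose_mul_of_right_mem_of_le (homogeneousSubmodule σ k) hz hℓm] at h1
    rw [← h1]
    refine Submodule.add_mem_sup ?_ ?_
    · rw [mem_piece]
      exact ⟨hI m ha, SetLike.coe_mem _⟩
    · refine ⟨(decompose (homogeneousSubmodule σ k) r (m - ℓ) : MvPolynomial σ k),
        SetLike.coe_mem _, ?_⟩
      rw [LinearMap.mulLeft_apply, mul_comm]
  · apply sup_le (piece_mono le_sup_left m)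
    rintro _ ⟨r, hr, rfl⟩
    rw [mem_piece, LinearMap.mulLeft_apply]
    refine ⟨Ideal.mem_sup_right (Ideal.mul_mem_right _ _ (Ideal.mem_span_singleton_self z)), ?_⟩
    have := SetLike.GradedMul.mul_mem (A := homogeneousSubmodule σ k) hz hr
    rwa [Nat.add_sub_cancel' hℓm] at this

include hI hz in
theorem piece_sup_of_lt {m : ℕ} (hℓm : m < ℓ) :
    piece (I ⊔ Ideal.span {z}) m = piece I m := by
  classical
  apply le_antisymm _ (piece_mono le_sup_left m)
  intro x hx
  rw [mem_piece] at hx
  obtain ⟨a, ha, y, hy, rfl⟩ := Submodule.mem_sup.mp hx.1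
  obtain ⟨r, rfl⟩ := Ideal.mem_span_singleton'.mp hy
  have h1 : (decompose (homogeneousSubmodule σ k) (a + r * z) m : MvPolynomial σ k) =
      a + r * z := decompose_of_mem_same _ hx.2
  rw [decompose_add, DirectSum.add_apply, Submodule.coe_add,
    coe_decompose_mul_of_right_mem_of_not_le (homogeneousSubmodule σ k) hz (not_le.mpr hℓm),
    add_zero] at h1
  rw [← h1, mem_piece]
  exact ⟨hI m ha, SetLike.coe_mem _⟩

include hz in
theorem piece_inf_map (m : ℕ) :
    piece I (m + ℓ) ⊓ (homogeneousSubmodule σ k m).map (LinearMap.mulLeft k z) =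
      (piece (I.colon {z}) m).map (LinearMap.mulLeft k z) := by
  apply le_antisymm
  · rintro x ⟨hx1, r, hr, rfl⟩
    refine ⟨r, ?_, rfl⟩
    rw [SetLike.mem_coe, mem_piece]
    refine ⟨?_, hr⟩
    rw [Submodule.mem_colon_singleton, smul_eq_mul, mul_comm]
    exact ((mem_piece).mp hx1).1
  · rintro _ ⟨r, hr, rfl⟩
    rw [SetLike.mem_coe, mem_piece, Submodule.mem_colon_singleton, smul_eq_mul] at hr
    refine ⟨?_, r, hr.2, rfl⟩
    rw [SetLike.mem_coe, mem_piece, LinearMap.mulLeft_apply]
    refine ⟨by rw [mul_comm]; exact hr.1, ?_⟩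
    have := SetLike.GradedMul.mul_mem (A := homogeneousSubmodule σ k) hz hr.2
    rwa [add_comm] at this

theorem finrank_map_mulLeft (hz0 : z ≠ 0) (W : Submodule k (MvPolynomial σ k)) :
    Module.finrank k (W.map (LinearMap.mulLeft k z)) = Module.finrank k W := by
  have hinj : Function.Injective (LinearMap.mulLeft k z) := by
    intro a b hab
    simp only [LinearMap.mulLeft_apply] at hab
    exact mul_left_cancel₀ hz0 hab
  exact (Submodule.equivMapOfInjective _ hinj W).finrank_eq.symm

include hI hz in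
/-- additivity of the Hilbert function along `0 → R/(I : z)(-ℓ) → R/I → R/(I + z) → 0` -/
theorem hq_add (hz0 : z ≠ 0) (m : ℕ) :
    hq I m = hq (I ⊔ Ideal.span {z}) m + hqs (I.colon {z}) ℓ m := by
  unfold hqs
  split_ifs with hℓm
  · obtain ⟨t, rfl⟩ := Nat.exists_eq_add_of_le hℓm
    have ht : ℓ + t - ℓ = t := Nat.add_sub_cancel_left ℓ t
    have h1 := piece_sup_of_le hI hz hℓm
    rw [ht] at h1
    have h2 := Submodule.finrank_sup_add_finrank_inf_eq (piece I (ℓ + t))
      ((homogeneousSubmodule σ k t).map (LinearMap.mulLeft k z))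
    have h3 : piece I (ℓ + t) ⊓ (homogeneousSubmodule σ k t).map (LinearMap.mulLeft k z) =
        (piece (I.colon {z}) t).map (LinearMap.mulLeft k z) := by
      rw [add_comm ℓ t]
      exact piece_inf_map hz t
    rw [← h1, h3, finrank_map_mulLeft hz0, finrank_map_mulLeft hz0] at h2
    unfold hq
    rw [ht]
    have h2' : (Module.finrank k (piece (I ⊔ Ideal.span {z}) (ℓ + t)) : ℚ) +
        Module.finrank k (piece (I.colon {z}) t) =
        Module.finrank k (piece I (ℓ + t)) + Module.finrank k (homogeneousSubmodule σ k t) := by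
      exact_mod_cast h2
    linarith
  · rw [add_zero]
    unfold hq
    rw [piece_sup_of_lt hI hz (not_le.mp hℓm)]

end Add

end Groth.Agent.Lib.Helper6.ProjDeg
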