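import Mathlib
import Groth.Agent.Lib.Helper8.Mult2
import Groth.Agent.Lib.Helper6.ProjDeg.PDa

set_option autoImplicit false
set_option linter.unusedSectionVars false
set_option linter.unusedVariables false
set_option linter.unusedSimpArgs false
set_option linter.style.haveILetI false
set_option maxHeartbeats 400000

/-!
# Graded prime filtrations of `R/I` for a homogeneous ideal of a polynomial ring
-/

open MvPolynomial DirectSum

universe u v

noncomputable section

namespace Groth.Agent.Lib.Helper6.ProjDeg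

variable {k : Type u} [Field k] {σ : Type v} [Finite σ]
  [GradedAlgebra (homogeneousSubmodule σ k)]

section Colon

variable {I : Ideal (MvPolynomial σ k)} (hI : I.IsHomogeneous (homogeneousSubmodule σ k))

include hI in
theorem colon_isHomogeneous {z : MvPolynomial σ k} {ℓ : ℕ}
    (hz : z ∈ homogeneousSubmodule σ k ℓ) :
    (I.colon {z}).IsHomogeneous (homogeneousSubmodule σ k) := by
  intro i x hx
  rw [Submodule.mem_colon_singleton, smul_eq_mul] at hx ⊢
  have h1 := hI (i + ℓ) hx
  rwa [coe_decompose_mul_add_of_right_mem (homogeneousSubmodule σ k) hz] at h1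

theorem le_colon (z : MvPolynomial σ k) : I ≤ I.colon {z} := by
  intro x hx
  rw [Submodule.mem_colon_singleton, smul_eq_mul]
  exact I.mul_mem_right _ hx

include hI in
/-- a proper homogeneous ideal has a prime colon ideal by a homogeneous element -/
theorem exists_colon_isPrime (hne : I ≠ ⊤) :
    ∃ (ℓ : ℕ) (z : MvPolynomial σ k), z ∈ homogeneousSubmodule σ k ℓ ∧ z ∉ I ∧
      (I.colon {z}).IsPrime := by
  set 𝒮 : Set (Ideal (MvPolynomial σ k)) :=
    {J | ∃ (ℓ : ℕ) (z : MvPolynomial σ k), z ∈ homogeneousSubmodule σ k ℓ ∧ z ∉ I ∧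
      J = I.colon {z}} with h𝒮
  have hne𝒮 : 𝒮.Nonempty := by
    refine ⟨I.colon {1}, 0, 1, ?_, ?_, rfl⟩
    · exact SetLike.GradedOne.one_mem
    · exact fun h => hne ((Ideal.eq_top_iff_one I).mpr h)
  obtain ⟨J, ⟨ℓ, z, hz, hzI, rfl⟩, hmax⟩ :=
    set_has_maximal_iff_noetherian.mpr (inferInstance : IsNoetherian _ (MvPolynomial σ k)) 𝒮 hne𝒮
  refine ⟨ℓ, z, hz, hzI, ?_⟩
  have hJhom := colon_isHomogeneous hI hz
  have hJne : I.colon {z} ≠ ⊤ := by
    intro h
    apply hzI
    have : (1 : MvPolynomial σ k) ∈ I.colon {z} := by rw [h]; trivial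
    rwa [Submodule.mem_colon_singleton, one_smul] at this
  refine hJhom.isPrime_of_homogeneous_mem_or_mem hJne ?_
  rintro x y ⟨a, hx⟩ ⟨b, hy⟩ hxy
  by_contra hcon
  rw [not_or] at hcon
  obtain ⟨hxJ, hyJ⟩ := hcon
  have hxz : x * z ∉ I := by
    rwa [Submodule.mem_colon_singleton, smul_eq_mul] at hxJ
  have hmem : I.colon {x * z} ∈ 𝒮 :=
    ⟨a + ℓ, x * z, SetLike.GradedMul.mul_mem hx hz, hxz, rfl⟩
  have hle : I.colon {z} ≤ I.colon {x * z} := by
    intro w hw
    rw [Submodule.mem_colon_singleton, smul_eq_mul] at hw ⊢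
    have : w * (x * z) = x * (w * z) := by ring
    rw [this]
    exact I.mul_mem_left _ hw
  have hy' : y ∈ I.colon {x * z} := by
    rw [Submodule.mem_colon_singleton, smul_eq_mul] at hxy ⊢
    have : y * (x * z) = x * y * z := by ring
    rw [this]
    exact hxy
  have hlt : I.colon {z} < I.colon {x * z} :=
    lt_of_le_of_ne hle (fun h => hyJ (h ▸ hy'))
  exact hmax _ hmem hlt

end Colon

section Exact

variable (I : Ideal (MvPolynomial σ k)) (z : MvPolynomial σ k)

/-- multiplication by `z`, `R/(I : z) → R/I` -/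
def mulMap : (MvPolynomial σ k ⧸ I.colon {z}) →ₗ[MvPolynomial σ k] (MvPolynomial σ k ⧸ I) :=
  Submodule.mapQ (I.colon {z}) I (LinearMap.toSpanSingleton (MvPolynomial σ k) (MvPolynomial σ k) z)
    (by
      intro x hx
      rw [Submodule.mem_comap, LinearMap.toSpanSingleton_apply]
      exact Submodule.mem_colon_singleton.mp hx)

/-- the projection `R/I → R/(I + z)` -/
def projMap : (MvPolynomial σ k ⧸ I) →ₗ[MvPolynomial σ k]
    (MvPolynomial σ k ⧸ (I ⊔ Ideal.span {z})) :=
  Submodule.mapQ I (I ⊔ Ideal.span {z}) LinearMap.id (by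
    intro x hx
    exact Ideal.mem_sup_left hx)

theorem mulMap_mk (x : MvPolynomial σ k) :
    mulMap I z (Submodule.Quotient.mk x) = Submodule.Quotient.mk (x * z) := rfl

theorem projMap_mk (x : MvPolynomial σ k) :
    projMap I z (Submodule.Quotient.mk x) = Submodule.Quotient.mk x := rfl

theorem mulMap_injective : Function.Injective (mulMap I z) := by
  rw [injective_iff_map_eq_zero]
  intro y hy
  obtain ⟨x, rfl⟩ := Submodule.Quotient.mk_surjective _ y
  rw [mulMap_mk, Submodule.Quotient.mk_eq_zero] at hy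
  rw [Submodule.Quotient.mk_eq_zero, Submodule.mem_colon_singleton, smul_eq_mul]
  exact hy

theorem projMap_surjective : Function.Surjective (projMap I z) := by
  intro y
  obtain ⟨x, rfl⟩ := Submodule.Quotient.mk_surjective _ y
  exact ⟨Submodule.Quotient.mk x, rfl⟩

theorem exact_mulMap_projMap : Function.Exact (mulMap I z) (projMap I z) := by
  intro y
  obtain ⟨x, rfl⟩ := Submodule.Quotient.mk_surjective _ y
  rw [projMap_mk, Submodule.Quotient.mk_eq_zero]
  constructor
  · intro hx
    obtain ⟨a, ha, w, hw, rfl⟩ := Submodule.mem_sup.mp hx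
    obtain ⟨r, rfl⟩ := Ideal.mem_span_singleton'.mp hw
    refine ⟨Submodule.Quotient.mk r, ?_⟩
    rw [mulMap_mk, Submodule.Quotient.eq]
    have : r * z - (a + r * z) = -a := by ring
    rw [this]
    exact I.neg_mem ha
  · rintro ⟨w, hw⟩
    obtain ⟨r, rfl⟩ := Submodule.Quotient.mk_surjective _ w
    rw [mulMap_mk, Submodule.Quotient.eq] at hw
    have : x = r * z - (r * z - x) := by ring
    rw [this]
    exact Submodule.sub_mem _ (Ideal.mem_sup_right (Ideal.mul_mem_left _ _
      (Ideal.mem_span_singleton_self z))) (Ideal.mem_sup_left hw)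

end Exact

section Filt

/-- the localized length of `R/I` at `p` -/
def lam (p : Ideal (MvPolynomial σ k)) [p.IsPrime] (I : Ideal (MvPolynomial σ k)) : ℕ∞ :=
  Module.length (Localization.AtPrime p) (LocalizedModule p.primeCompl (MvPolynomial σ k ⧸ I))

theorem lam_add (p : Ideal (MvPolynomial σ k)) [p.IsPrime] (I : Ideal (MvPolynomial σ k))
    (z : MvPolynomial σ k) : lam p I = lam p (I.colon {z}) + lam p (I ⊔ Ideal.span {z}) :=
  Groth.Agent.Helper8.Mult.length_localizedModule_add p (mulMap I z) (projMap I z)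
    (mulMap_injective I z) (projMap_surjective I z) (exact_mulMap_projMap I z)

theorem lam_top (p : Ideal (MvPolynomial σ k)) [p.IsPrime] : lam p ⊤ = 0 := by
  unfold lam
  rw [Module.length_eq_zero_iff]
  haveI : Subsingleton (MvPolynomial σ k ⧸ (⊤ : Ideal (MvPolynomial σ k))) :=
    Ideal.Quotient.subsingleton_iff.mpr rfl
  rw [LocalizedModule.subsingleton_iff]
  intro m
  exact ⟨1, Submonoid.one_mem _, Subsingleton.elim _ _⟩

/-- the data of a graded prime filtration of `R/I`: the primes with their shifts -/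
def IsFilt (I : Ideal (MvPolynomial σ k)) (L : List (Ideal (MvPolynomial σ k) × ℕ)) : Prop :=
  (∀ x ∈ L, x.1.IsPrime ∧ x.1.IsHomogeneous (homogeneousSubmodule σ k) ∧ I ≤ x.1) ∧
  (∀ m, hq I m = (L.map fun x => hqs x.1 x.2 m).sum) ∧
  (∀ (p : Ideal (MvPolynomial σ k)) [p.IsPrime], lam p I = (L.map fun x => lam p x.1).sum)

theorem exists_isFilt (I : Ideal (MvPolynomial σ k))
    (hI : I.IsHomogeneous (homogeneousSubmodule σ k)) : ∃ L, IsFilt I L := by
  revert hI
  refine IsNoetherian.induction (P := fun I : Submodule (MvPolynomial σ k) (MvPolynomial σ k) =>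
    Ideal.IsHomogeneous (homogeneousSubmodule σ k) I → ∃ L, IsFilt I L) ?_ I
  intro I ih hI
  by_cases htop : I = ⊤
  · refine ⟨[], ?_, ?_, ?_⟩
    · intro x hx
      exact absurd hx (List.not_mem_nil)
    · intro m
      rw [htop]
      simp [hq_top]
    · intro p hp
      rw [htop]
      simp [lam_top]
  · obtain ⟨ℓ, z, hz, hzI, hprime⟩ := exists_colon_isPrime hI htop
    have hlt : I < I ⊔ Ideal.span {z} := by
      refine lt_of_le_of_ne le_sup_left (fun h => hzI ?_)
      rw [h]
      exact Ideal.mem_sup_right (Ideal.mem_span_singleton_self z)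
    have hhom : (I ⊔ Ideal.span {z}).IsHomogeneous (homogeneousSubmodule σ k) := by
      refine hI.sup (Ideal.homogeneous_span _ _ ?_)
      rintro x hx
      rw [Set.mem_singleton_iff] at hx
      subst hx
      exact ⟨ℓ, hz⟩
    obtain ⟨L', h1, h2, h3⟩ := ih _ hlt hhom
    have hz0 : z ≠ 0 := fun h => hzI (h ▸ I.zero_mem)
    refine ⟨(I.colon {z}, ℓ) :: L', ?_, ?_, ?_⟩
    · intro x hx
      rcases List.mem_cons.mp hx with rfl | hx
      · exact ⟨hprime, colon_isHomogeneous hI hz, le_colon z⟩
      · obtain ⟨ha, hb, hc⟩ := h1 x hx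
        exact ⟨ha, hb, le_sup_left.trans hc⟩
    · intro m
      rw [List.map_cons, List.sum_cons, ← h2 m, hq_add hI hz hz0 m, add_comm]
    · intro p hp
      rw [List.map_cons, List.sum_cons, ← h3 p, lam_add p I z]

end Filt

end Groth.Agent.Lib.Helper6.ProjDeg
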