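import Mathlib
import Groth.Agent.Lib.Helper6.ProjDeg.PDb

set_option autoImplicit false
set_option linter.unusedSectionVars false
set_option linter.unusedVariables false
set_option linter.unusedSimpArgs false
set_option linter.style.haveILetI false
set_option maxHeartbeats 400000

/-!
# Asymptotics of Hilbert functions
-/

open Filter Topology

universe u

noncomputable section

namespace Groth.Agent.Lib.Helper6.ProjDeg

section Asym

open Polynomial

/-- `h(m)/m^d → c` -/
def Asym (h : ℕ → ℚ) (d : ℕ) (c : ℚ) : Prop :=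
  Tendsto (fun m : ℕ => h m / (m : ℚ) ^ d) atTop (𝓝 c)

theorem asym_poly (P : ℚ[X]) (d : ℕ) (hd : P.natDegree ≤ d) :
    Asym (fun m => P.eval (m : ℚ)) d (P.coeff d) := by
  unfold Asym
  have hX : ∀ m : ℕ, (m : ℚ) ^ d = (X ^ d : ℚ[X]).eval (m : ℚ) := by
    intro m
    simp
  simp_rw [hX]
  rcases lt_or_eq_of_le hd with hlt | heq
  · have hdeg : P.degree < (X ^ d : ℚ[X]).degree := by
      rw [degree_X_pow]
      exact lt_of_le_of_lt degree_le_natDegree (by exact_mod_cast hlt)
    rw [coeff_eq_zero_of_natDegree_lt hlt]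
    exact (Polynomial.div_tendsto_atTop_zero_of_degree_lt P (X ^ d) hdeg).comp
      (tendsto_natCast_atTop_atTop (R := ℚ))
  · by_cases hP0 : P = 0
    · subst hP0
      simp
    · have hdeg : P.degree = (X ^ d : ℚ[X]).degree := by
        rw [degree_X_pow, degree_eq_natDegree hP0, heq]
      have := (Polynomial.div_tendsto_atTop_leadingCoeff_div_of_degree_eq P (X ^ d) hdeg).comp
        (tendsto_natCast_atTop_atTop (R := ℚ))
      rw [leadingCoeff_X_pow, div_one, leadingCoeff, heq] at this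
      exact this

theorem asym_congr {h h' : ℕ → ℚ} {d : ℕ} {c : ℚ} (hh : ∀ᶠ m in atTop, h m = h' m)
    (ha : Asym h d c) : Asym h' d c := by
  unfold Asym at ha ⊢
  refine ha.congr' ?_
  filter_upwards [hh] with m hm
  rw [hm]

theorem asym_unique {h : ℕ → ℚ} {d : ℕ} {c c' : ℚ} (ha : Asym h d c) (ha' : Asym h d c') :
    c = c' := tendsto_nhds_unique ha ha'

theorem asym_zero (d : ℕ) : Asym (fun _ => 0) d 0 := by
  unfold Asym
  simp

theorem asym_add {h h' : ℕ → ℚ} {d : ℕ} {c c' : ℚ} (ha : Asym h d c) (ha' : Asym h' d c') :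
    Asym (fun m => h m + h' m) d (c + c') := by
  unfold Asym at ha ha' ⊢
  simp_rw [add_div]
  exact ha.add ha'

theorem asym_sub {h h' : ℕ → ℚ} {d : ℕ} {c c' : ℚ} (ha : Asym h d c) (ha' : Asym h' d c') :
    Asym (fun m => h m - h' m) d (c - c') := by
  unfold Asym at ha ha' ⊢
  simp_rw [sub_div]
  exact ha.sub ha'

theorem asym_squeeze {h g : ℕ → ℚ} {d : ℕ} (h0 : ∀ᶠ m in atTop, 0 ≤ h m)
    (hg : ∀ᶠ m in atTop, h m ≤ g m) (ha : Asym g d 0) : Asym h d 0 := by
  unfold Asym at ha ⊢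
  refine tendsto_of_tendsto_of_tendsto_of_le_of_le' tendsto_const_nhds ha ?_ ?_
  · filter_upwards [h0] with m hm
    positivity
  · filter_upwards [hg] with m hm
    gcongr

theorem asym_list_sum {α : Type*} (L : List α) (h : α → ℕ → ℚ) (c : α → ℚ) (d : ℕ)
    (ha : ∀ x ∈ L, Asym (h x) d (c x)) :
    Asym (fun m => (L.map fun x => h x m).sum) d (L.map c).sum := by
  induction L with
  | nil => simpa using asym_zero d
  | cons a L ih =>
    simp only [List.map_cons, List.sum_cons]
    exact asym_add (ha a List.mem_cons_self)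
      (ih fun x hx => ha x (List.mem_cons_of_mem _ hx))

/-- the shift `Q(X - ℓ)` -/
def shiftP (Q : ℚ[X]) (ℓ : ℕ) : ℚ[X] := Q.comp (X - C (ℓ : ℚ))

theorem shiftP_eval (Q : ℚ[X]) (ℓ : ℕ) (x : ℚ) : (shiftP Q ℓ).eval x = Q.eval (x - ℓ) := by
  simp [shiftP]

theorem natDegree_shiftP (Q : ℚ[X]) (ℓ : ℕ) : (shiftP Q ℓ).natDegree = Q.natDegree := by
  unfold shiftP
  rw [natDegree_comp, natDegree_X_sub_C, mul_one]

theorem coeff_shiftP (Q : ℚ[X]) (ℓ : ℕ) (d : ℕ) (hd : Q.natDegree ≤ d) :
    (shiftP Q ℓ).coeff d = Q.coeff d := by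
  rcases lt_or_eq_of_le hd with hlt | heq
  · rw [coeff_eq_zero_of_natDegree_lt hlt, coeff_eq_zero_of_natDegree_lt]
    rwa [natDegree_shiftP]
  · have h1 : (shiftP Q ℓ).leadingCoeff = Q.leadingCoeff := by
      unfold shiftP
      rw [leadingCoeff_comp (by rw [natDegree_X_sub_C]; exact one_ne_zero),
        leadingCoeff_X_sub_C, one_pow, mul_one]
    rw [leadingCoeff, leadingCoeff, natDegree_shiftP, heq] at h1
    exact h1

/-- comparison of the degrees of polynomials from an eventual inequality of values -/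
theorem natDegree_le_of_eventually_le (P Q : ℚ[X])
    (h0 : ∀ᶠ m : ℕ in atTop, 0 ≤ Q.eval (m : ℚ))
    (h : ∀ᶠ m : ℕ in atTop, Q.eval (m : ℚ) ≤ P.eval (m : ℚ)) : Q.natDegree ≤ P.natDegree := by
  by_contra hlt
  push Not at hlt
  have h1 : Asym (fun m => P.eval (m : ℚ)) Q.natDegree 0 := by
    have := asym_poly P Q.natDegree hlt.le
    rwa [coeff_eq_zero_of_natDegree_lt hlt] at this
  have h2 := asym_squeeze h0 h h1
  have h3 := asym_poly Q Q.natDegree le_rfl
  have h4 := asym_unique h2 h3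
  have h5 : Q = 0 := leadingCoeff_eq_zero.mp h4.symm
  rw [h5] at hlt
  simp at hlt

end Asym

end Groth.Agent.Lib.Helper6.ProjDeg
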