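import Mathlib
import Groth.Agent.Lib.Helper6.ProjDeg.PDc

set_option autoImplicit false
set_option linter.unusedSectionVars false
set_option linter.unusedVariables false
set_option linter.unusedSimpArgs false
set_option linter.style.haveILetI false
set_option maxHeartbeats 400000

/-!
# The degree formula for the Hilbert polynomial of a homogeneous ideal
-/

open MvPolynomial DirectSum Filter Topology

universe u v

noncomputable section

namespace Groth.Agent.Lib.Helper6.ProjDeg

section Lists

theorem list_sum_ite_enat {α : Type*} (L : List α) (f : α → Prop) [DecidablePred f] :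
    (L.map fun x => if f x then (1 : ℕ∞) else 0).sum =
      ((L.map fun x => if f x then (1 : ℕ) else 0).sum : ℕ) := by
  induction L with
  | nil => simp
  | cons a L ih =>
    simp only [List.map_cons, List.sum_cons, ih]
    split_ifs <;> simp

theorem list_sum_ite_rat {α : Type*} (L : List α) (f : α → Prop) [DecidablePred f] (c : ℚ) :
    (L.map fun x => if f x then c else 0).sum =
      c * ((L.map fun x => if f x then (1 : ℕ) else 0).sum : ℕ) := by
  induction L with
  | nil => simp
  | cons a L ih =>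
    simp only [List.map_cons, List.sum_cons, ih]
    split_ifs <;> push_cast <;> ring

theorem list_sum_finset_sum {α ι : Type*} (L : List α) (s : Finset ι) (g : ι → α → ℚ) :
    (L.map fun x => ∑ i ∈ s, g i x).sum = ∑ i ∈ s, (L.map fun x => g i x).sum := by
  induction L with
  | nil => simp
  | cons a L ih => simp only [List.map_cons, List.sum_cons, ih, Finset.sum_add_distrib]

end Lists

variable {k : Type u} [Field k] {σ : Type v} [Finite σ]
  [GradedAlgebra (homogeneousSubmodule σ k)]

/-- `Q` is the Hilbert polynomial of `I` -/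
def IsHilb (I : Ideal (MvPolynomial σ k)) (Q : Polynomial ℚ) : Prop :=
  ∃ m₀ : ℕ, ∀ m : ℕ, m₀ ≤ m → Q.eval (m : ℚ) = hq I m

theorem IsHilb.eventually {I : Ideal (MvPolynomial σ k)} {Q : Polynomial ℚ} (h : IsHilb I Q) :
    ∀ᶠ m : ℕ in atTop, hq I m = Q.eval (m : ℚ) := by
  obtain ⟨m₀, h⟩ := h
  filter_upwards [eventually_ge_atTop m₀] with m hm
  exact (h m hm).symm

theorem IsHilb.hqs_eventually {I : Ideal (MvPolynomial σ k)} {Q : Polynomial ℚ} (h : IsHilb I Q)
    (ℓ : ℕ) : ∀ᶠ m : ℕ in atTop, hqs I ℓ m = (shiftP Q ℓ).eval (m : ℚ) := by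
  obtain ⟨m₀, h⟩ := h
  filter_upwards [eventually_ge_atTop (m₀ + ℓ)] with m hm
  have hℓ : ℓ ≤ m := by omega
  rw [hqs, if_pos hℓ, shiftP_eval, ← h (m - ℓ) (by omega)]
  congr 1
  push_cast [Nat.cast_sub hℓ]
  rfl

theorem IsHilb.asym_hqs {I : Ideal (MvPolynomial σ k)} {Q : Polynomial ℚ} (h : IsHilb I Q)
    (ℓ d : ℕ) (hd : Q.natDegree ≤ d) : Asym (hqs I ℓ) d (Q.coeff d) := by
  have h1 := asym_poly (shiftP Q ℓ) d (by rw [natDegree_shiftP]; exact hd)
  rw [coeff_shiftP Q ℓ d hd] at h1
  refine asym_congr ?_ h1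
  filter_upwards [h.hqs_eventually ℓ] with m hm
  exact hm.symm

/-- colon of a prime by a non-member -/
theorem colon_of_prime {p : Ideal (MvPolynomial σ k)} [hp : p.IsPrime] {z : MvPolynomial σ k}
    (hz : z ∉ p) : p.colon {z} = p := by
  apply le_antisymm
  · intro x hx
    rw [Submodule.mem_colon_singleton, smul_eq_mul] at hx
    exact (hp.mem_or_mem hx).resolve_right hz
  · exact le_colon z

theorem exists_homogeneous_mem_not_mem {p q : Ideal (MvPolynomial σ k)}
    (hq : q.IsHomogeneous (homogeneousSubmodule σ k)) (hlt : ¬ q ≤ p) :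
    ∃ (ℓ : ℕ) (z : MvPolynomial σ k), z ∈ homogeneousSubmodule σ k ℓ ∧ z ∈ q ∧ z ∉ p := by
  classical
  obtain ⟨x, hxq, hxp⟩ := Set.not_subset.mp hlt
  by_contra hcon
  push Not at hcon
  apply hxp
  rw [SetLike.mem_coe, ← DirectSum.sum_support_decompose (homogeneousSubmodule σ k) x]
  refine Ideal.sum_mem _ fun i _ => ?_
  exact hcon i _ (SetLike.coe_mem _) (hq i hxq)

theorem isHomogeneous_of_mem_minimalPrimes {I p : Ideal (MvPolynomial σ k)}
    (hI : I.IsHomogeneous (homogeneousSubmodule σ k)) (hp : p ∈ I.minimalPrimes) :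
    p.IsHomogeneous (homogeneousSubmodule σ k) := by
  haveI := hp.1.1
  have h1 : ((p.homogeneousCore (homogeneousSubmodule σ k)).toIdeal).IsPrime :=
    Ideal.IsPrime.homogeneousCore hp.1.1
  have h2 : I ≤ (p.homogeneousCore (homogeneousSubmodule σ k)).toIdeal := by
    rw [← hI.toIdeal_homogeneousCore_eq_self]
    exact Ideal.homogeneousCore_mono (homogeneousSubmodule σ k) hp.1.2
  have h3 := hp.2 ⟨h1, h2⟩ (Ideal.toIdeal_homogeneousCore_le (homogeneousSubmodule σ k) p)
  have h4 : (p.homogeneousCore (homogeneousSubmodule σ k)).toIdeal = p :=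
    le_antisymm (Ideal.toIdeal_homogeneousCore_le (homogeneousSubmodule σ k) p) h3
  rw [← h4]
  exact (p.homogeneousCore (homogeneousSubmodule σ k)).isHomogeneous

theorem asym_strict {p q : Ideal (MvPolynomial σ k)} [p.IsPrime]
    (hpH : p.IsHomogeneous (homogeneousSubmodule σ k))
    (hqH : q.IsHomogeneous (homogeneousSubmodule σ k)) (hle : p ≤ q) (hne : ¬ q ≤ p)
    {Q : Polynomial ℚ} (hQ : IsHilb p Q) (d : ℕ) (hd : Q.natDegree ≤ d) (ℓ : ℕ) :
    Asym (hqs q ℓ) d 0 := by
  obtain ⟨ℓ', z, hz, hzq, hzp⟩ := exists_homogeneous_mem_not_mem hqH hne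
  have hz0 : z ≠ 0 := fun h => hzp (h ▸ p.zero_mem)
  have hbound : ∀ m, hq q m ≤ hq p m - hqs p ℓ' m := by
    intro m
    have h1 := hq_add hpH hz hz0 m
    rw [colon_of_prime hzp] at h1
    have h2 : hq q m ≤ hq (p ⊔ Ideal.span {z}) m :=
      hq_anti (sup_le hle ((Ideal.span_singleton_le_iff_mem _).mpr hzq)) m
    linarith
  have hbound' : ∀ m, hqs q ℓ m ≤ hqs p ℓ m - hqs p (ℓ + ℓ') m := by
    intro m
    by_cases h1 : ℓ ≤ m
    · have := hbound (m - ℓ)
      unfold hqs at this ⊢
      rw [if_pos h1, if_pos h1]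
      by_cases h2 : ℓ + ℓ' ≤ m
      · rw [if_pos h2]
        rw [if_pos (by omega)] at this
        have e : m - ℓ - ℓ' = m - (ℓ + ℓ') := by omega
        rwa [e] at this
      · rw [if_neg h2]
        rw [if_neg (by omega)] at this
        exact this
    · unfold hqs
      rw [if_neg h1, if_neg h1, if_neg (by omega)]
      simp
  have h3 := asym_sub (hQ.asym_hqs ℓ d hd) (hQ.asym_hqs (ℓ + ℓ') d hd)
  rw [sub_self] at h3
  exact asym_squeeze (Eventually.of_forall fun m => hqs_nonneg q ℓ m)
    (Eventually.of_forall hbound') h3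

theorem hqs_zero (I : Ideal (MvPolynomial σ k)) : hqs I 0 = hq I := by
  funext m
  simp [hqs]

open Polynomial in
/-- **The degree formula**: `deg V(I) = Σ (multiplicity) · deg V(p_i)` over the top-dimensional
minimal primes. -/
theorem degree_formula (I : Ideal (MvPolynomial σ k))
    (hI : I.IsHomogeneous (homogeneousSubmodule σ k)) (P : ℚ[X]) (hP : IsHilb I P)
    (r : ℕ) (p : Fin r → Ideal (MvPolynomial σ k)) [hp : ∀ i, (p i).IsPrime]
    (hpinj : Function.Injective p)
    (hpmin : ∀ q : Ideal (MvPolynomial σ k), q ∈ I.minimalPrimes ↔ ∃ i, q = p i)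
    (Qp : Fin r → ℚ[X]) (hQp : ∀ i, IsHilb (p i) (Qp i)) :
    (P.natDegree.factorial : ℚ) * P.leadingCoeff =
      ∑ i : Fin r, if (Qp i).natDegree = P.natDegree then
        ((Qp i).natDegree.factorial : ℚ) * (Qp i).leadingCoeff * (lam (p i) I).toNat
      else 0 := by
  classical
  have hmin : ∀ i, p i ∈ I.minimalPrimes := fun i => (hpmin _).mpr ⟨i, rfl⟩
  have hIle : ∀ i, I ≤ p i := fun i => (hmin i).1.2
  have hpH : ∀ i, (p i).IsHomogeneous (homogeneousSubmodule σ k) := fun i =>
    isHomogeneous_of_mem_minimalPrimes hI (hmin i)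
  have hdeg : ∀ i, (Qp i).natDegree ≤ P.natDegree := by
    intro i
    apply natDegree_le_of_eventually_le
    · filter_upwards [(hQp i).eventually] with m hm
      rw [← hm]
      exact hq_nonneg _ _
    · filter_upwards [(hQp i).eventually, hP.eventually] with m hm hm'
      rw [← hm, ← hm']
      exact hq_anti (hIle i) m
  obtain ⟨L, hL1, hL2, hL3⟩ := exists_isFilt I hI
  set c : Ideal (MvPolynomial σ k) × ℕ → ℚ := fun x =>
    ∑ i : Fin r, if x.1 = p i then (Qp i).coeff P.natDegree else 0 with hc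
  have hasym : ∀ x ∈ L, Asym (hqs x.1 x.2) P.natDegree (c x) := by
    intro x hx
    obtain ⟨hxP, hxH, hxI⟩ := hL1 x hx
    by_cases hmem : ∃ i, x.1 = p i
    · obtain ⟨i, hi⟩ := hmem
      have hci : c x = (Qp i).coeff P.natDegree := by
        simp only [hc]
        rw [Finset.sum_eq_single i]
        · rw [if_pos hi]
        · intro j _ hji
          rw [if_neg]
          intro hj
          exact hji (hpinj (hj.symm.trans hi))
        · simp
      rw [hci, hi]
      exact (hQp i).asym_hqs x.2 P.natDegree (hdeg i)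
    · have hc0 : c x = 0 := by
        simp only [hc]
        apply Finset.sum_eq_zero
        intro i _
        rw [if_neg]
        exact fun h => hmem ⟨i, h⟩
      rw [hc0]
      haveI := hxP
      obtain ⟨q, hq, hqle⟩ := Ideal.exists_minimalPrimes_le hxI
      obtain ⟨i, hi⟩ := (hpmin q).mp hq
      rw [hi] at hqle
      have hne : ¬ x.1 ≤ p i := fun h => hmem ⟨i, le_antisymm h hqle⟩
      exact asym_strict (hpH i) hxH hqle hne (hQp i) P.natDegree (hdeg i) x.2
  have h1 : Asym (hq I) P.natDegree (L.map c).sum := by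
    have := asym_list_sum L (fun x => hqs x.1 x.2) c P.natDegree hasym
    refine asym_congr ?_ this
    exact Eventually.of_forall fun m => (hL2 m).symm
  have h2 : Asym (hq I) P.natDegree (P.coeff P.natDegree) :=
    asym_congr (hP.eventually.mono fun m hm => hm.symm) (asym_poly P P.natDegree le_rfl)
  have h3 : P.coeff P.natDegree = (L.map c).sum := asym_unique h2 h1
  have hlam : ∀ i, ∀ x ∈ L, lam (p i) x.1 = if x.1 = p i then 1 else 0 := by
    intro i x hx
    obtain ⟨hxP, hxH, hxI⟩ := hL1 x hx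
    split_ifs with h
    · rw [h]
      exact Groth.Agent.Helper8.Mult.length_localizedModule_quotient_self (p i)
    · have hnle : ¬ x.1 ≤ p i := fun hle => h (le_antisymm hle ((hmin i).2 ⟨hxP, hxI⟩ hle))
      haveI := Groth.Agent.Helper8.Mult.subsingleton_localizedModule_quotient x.1 (p i) hnle
      exact Module.length_eq_zero
  have hcount : ∀ i, lam (p i) I =
      ((L.map fun x => if x.1 = p i then (1 : ℕ) else 0).sum : ℕ) := by
    intro i
    rw [hL3 (p i), List.map_congr_left (hlam i), list_sum_ite_enat]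
  rw [show P.leadingCoeff = P.coeff P.natDegree from rfl, h3]
  simp only [hc]
  rw [list_sum_finset_sum, Finset.mul_sum]
  apply Finset.sum_congr rfl
  intro i _
  rw [list_sum_ite_rat, hcount i, ENat.toNat_natCast]
  split_ifs with h
  · rw [leadingCoeff, h]
    ring
  · have hlt : (Qp i).natDegree < P.natDegree := lt_of_le_of_ne (hdeg i) h
    rw [coeff_eq_zero_of_natDegree_lt hlt]
    ring

end Groth.Agent.Lib.Helper6.ProjDeg
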