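import Mathlib
import Groth.Agent.S10907
import Groth.Agent.Lib.Helper4.DimFT2
import Groth.Agent.Lib.Helper6.ProjDeg.PDd

set_option autoImplicit false
set_option linter.unusedSectionVars false
set_option linter.unusedVariables false
set_option linter.unusedSimpArgs false
set_option linter.style.haveILetI false
set_option maxHeartbeats 400000

/-!
# Bezout's theorem for a hypersurface section of a projective variety
-/

open Filter Topology

universe u v

noncomputable section

namespace Groth.Agent.Lib.Helper6.ProjDeg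

section Poly

open Polynomial

theorem coeff_shiftP_pred (P : ℚ[X]) (d s : ℕ) (hs : P.natDegree = s + 1) :
    (shiftP P d).coeff s = P.coeff s - ((s : ℚ) + 1) * d * P.coeff (s + 1) := by
  have h1 : shiftP P d = taylor (-(d : ℚ)) P := by
    unfold shiftP
    rw [taylor_apply, C_neg, sub_eq_add_neg]
  rw [h1, taylor_coeff]
  have h2 : (hasseDeriv s P).natDegree ≤ 1 := by
    have := natDegree_hasseDeriv_le P s
    omega
  rw [eq_X_add_C_of_natDegree_le_one h2]
  simp only [eval_add, eval_mul, eval_C, eval_X, hasseDeriv_coeff]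
  rw [zero_add, Nat.choose_self, add_comm 1 s, Nat.choose_succ_self_right]
  push_cast
  ring

theorem diff_props (P : ℚ[X]) (d s : ℕ) (hs : P.natDegree = s + 1) (hd : 0 < d) :
    (P - shiftP P d).natDegree = s ∧
      (P - shiftP P d).leadingCoeff = ((s : ℚ) + 1) * d * P.leadingCoeff := by
  have hc : (P - shiftP P d).coeff s = ((s : ℚ) + 1) * d * P.coeff (s + 1) := by
    rw [coeff_sub, coeff_shiftP_pred P d s hs]
    ring
  have hle : (P - shiftP P d).natDegree ≤ s := by
    rw [natDegree_le_iff_coeff_eq_zero]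
    intro N hN
    rw [coeff_sub]
    rcases Nat.lt_or_ge (s + 1) N with h | h
    · rw [coeff_eq_zero_of_natDegree_lt (by omega),
        coeff_eq_zero_of_natDegree_lt (by rw [natDegree_shiftP]; omega), sub_zero]
    · have : N = s + 1 := by omega
      subst this
      rw [coeff_shiftP P d (s + 1) hs.le, sub_self]
  have hlc : P.coeff (s + 1) = P.leadingCoeff := by rw [leadingCoeff, hs]
  have hP0 : P.leadingCoeff ≠ 0 := leadingCoeff_ne_zero.mpr (by
    rintro rfl
    simp at hs)
  have hd0 : (d : ℚ) ≠ 0 := by exact_mod_cast hd.ne'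
  have hs0 : ((s : ℚ) + 1) ≠ 0 := by positivity
  have hne : (P - shiftP P d).coeff s ≠ 0 := by
    rw [hc, hlc]
    exact mul_ne_zero (mul_ne_zero hs0 hd0) hP0
  have hnd := natDegree_eq_of_le_of_coeff_ne_zero hle hne
  refine ⟨hnd, ?_⟩
  rw [leadingCoeff, hnd, hc, hlc]

end Poly

section Zero

open MvPolynomial DirectSum

variable {k : Type u} [Field k] {σ : Type v} [Finite σ]
  [GradedAlgebra (homogeneousSubmodule σ k)]

theorem homog_le_of_hq_zero {q : Ideal (MvPolynomial σ k)} {m : ℕ} (h : hq q m = 0) :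
    ∀ x ∈ homogeneousSubmodule σ k m, x ∈ q := by
  have h1 : Module.finrank k (piece q m) = Module.finrank k (homogeneousSubmodule σ k m) := by
    unfold hq at h
    have := sub_eq_zero.mp h
    exact_mod_cast this.symm
  have h2 : piece q m = homogeneousSubmodule σ k m :=
    Submodule.eq_of_le_of_finrank_eq (piece_le q m) h1
  intro x hx
  rw [← h2] at hx
  exact (mem_piece.mp hx).1

theorem dim_le_zero_of_isHilb_zero (q : Ideal (MvPolynomial σ k)) [hq' : q.IsPrime]
    (hQ : IsHilb q 0) : ringKrullDim (MvPolynomial σ k ⧸ q) ≤ 0 := by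
  classical
  obtain ⟨m₀, hm₀⟩ := hQ
  have hz : ∀ m, m₀ ≤ m → ∀ x ∈ homogeneousSubmodule σ k m, x ∈ q := fun m hm =>
    homog_le_of_hq_zero (by rw [← hm₀ m hm]; simp)
  have hX : ∀ j : σ, (X j : MvPolynomial σ k) ∈ q := by
    intro j
    have h1 : (X j : MvPolynomial σ k) ^ m₀ ∈ homogeneousSubmodule σ k (1 * m₀) :=
      (isHomogeneous_X k j).pow m₀
    have h2 : (X j : MvPolynomial σ k) ^ m₀ ∈ q := hz (1 * m₀) (by omega) _ h1
    exact hq'.mem_of_pow_mem m₀ h2
  have hsurj : Function.Surjective (algebraMap k (MvPolynomial σ k ⧸ q)) := by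
    intro y
    obtain ⟨x, rfl⟩ := Ideal.Quotient.mk_surjective y
    have h1 : Ideal.Quotient.mkₐ k q =
        MvPolynomial.aeval (fun j => Ideal.Quotient.mkₐ k q (X j)) :=
      MvPolynomial.aeval_unique _
    have h2 : (fun j : σ => Ideal.Quotient.mkₐ k q (X j)) = 0 := by
      funext j
      exact Ideal.Quotient.eq_zero_iff_mem.mpr (hX j)
    refine ⟨constantCoeff x, ?_⟩
    have h3 : Ideal.Quotient.mkₐ k q x = algebraMap k _ (constantCoeff x) := by
      rw [h1, h2, aeval_zero]
    exact h3.symm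
  have := ringKrullDim_le_of_surjective (algebraMap k (MvPolynomial σ k ⧸ q)) hsurj
  rwa [ringKrullDim_eq_zero_of_field] at this

end Zero

section Main

open Polynomial

variable {k : Type u} [Field k] {n : ℕ}

theorem natDegree_of_minimal (I : Ideal (MvPolynomial (Fin (n + 1)) k)) [hIp : I.IsPrime]
    (hI : I.IsHomogeneous (CohB1.polyGrading n k)) (P : ℚ[X]) (hP : IsHilb I P)
    (hdim : 1 ≤ P.natDegree) (f : MvPolynomial (Fin (n + 1)) k) (hfI : f ∉ I)
    (q : Ideal (MvPolynomial (Fin (n + 1)) k)) (hq : q ∈ (I ⊔ Ideal.span {f}).minimalPrimes)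
    (hqH : q.IsHomogeneous (CohB1.polyGrading n k)) (Q : ℚ[X]) (hQ : IsHilb q Q) :
    Q.natDegree + 1 = P.natDegree := by
  haveI := hq.1.1
  have hIq : I ≤ q := le_sup_left.trans hq.1.2
  have hP0 : P ≠ 0 := by
    rintro rfl
    simp at hdim
  have h1 := Groth.Agent.Lib.Helper4.DimFT2.height_map_add_dim k
    (MvPolynomial (Fin (n + 1)) k) I q hIq
  have h2 : (q.map (Ideal.Quotient.mk I)).height = 1 := by
    apply le_antisymm (Ideal.map_height_le_one_of_mem_minimalPrimes hq)
    rw [Order.one_le_iff_ne_zero, Ne, Ideal.height_eq_zero_iff_eq_bot]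
    intro h0
    rw [Ideal.map_eq_bot_iff_le_ker, Ideal.mk_ker] at h0
    exact hfI (h0 (hq.1.2 (Ideal.mem_sup_right (Ideal.mem_span_singleton_self f))))
  have hdI : ringKrullDim (MvPolynomial (Fin (n + 1)) k ⧸ I) = (P.natDegree : WithBot ℕ∞) + 1 :=
    Groth.Agent.S10907.result k n I hI P hP0 hP
  rw [h2, hdI] at h1
  by_cases hQ0 : Q = 0
  · exfalso
    subst hQ0
    have h3 := dim_le_zero_of_isHilb_zero q hQ
    have h4 : ((P.natDegree : WithBot ℕ∞) + 1) ≤ 1 := by
      rw [← h1]
      calc ((1 : ℕ∞) : WithBot ℕ∞) + ringKrullDim (MvPolynomial (Fin (n + 1)) k ⧸ q)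
          ≤ ((1 : ℕ∞) : WithBot ℕ∞) + 0 := by gcongr
        _ = 1 := by simp
    have h5 : P.natDegree + 1 ≤ 1 := by exact_mod_cast h4
    omega
  · have hdq : ringKrullDim (MvPolynomial (Fin (n + 1)) k ⧸ q) = (Q.natDegree : WithBot ℕ∞) + 1 :=
      Groth.Agent.S10907.result k n q hqH Q hQ0 hQ
    rw [hdq] at h1
    have h5 : 1 + (Q.natDegree + 1) = P.natDegree + 1 := by exact_mod_cast h1
    omega

/-- **Bezout's theorem** for a hypersurface section of a projective variety of positive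
dimension -/
theorem bezout (I : Ideal (MvPolynomial (Fin (n + 1)) k))
    (hIh : I.IsHomogeneous (CohB1.polyGrading n k)) [I.IsPrime]
    (f : MvPolynomial (Fin (n + 1)) k) (d : ℕ) (hd : 0 < d) (hf : f.IsHomogeneous d) (hfI : f ∉ I)
    (P : ℚ[X]) (hP : IsHilb I P) (hdim : 1 ≤ P.natDegree)
    (r : ℕ) (p : Fin r → Ideal (MvPolynomial (Fin (n + 1)) k)) [hp : ∀ i, (p i).IsPrime]
    (hpinj : Function.Injective p)
    (hpmin : ∀ q : Ideal (MvPolynomial (Fin (n + 1)) k),
      q ∈ (I ⊔ Ideal.span {f}).minimalPrimes ↔ ∃ i, q = p i)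
    (Qp : Fin r → ℚ[X]) (hQp : ∀ i, IsHilb (p i) (Qp i)) :
    (d : ℚ) * ((P.natDegree.factorial : ℚ) * P.leadingCoeff) =
      ∑ i : Fin r, ((Qp i).natDegree.factorial : ℚ) * (Qp i).leadingCoeff *
        (lam (p i) (I ⊔ Ideal.span {f})).toNat := by
  obtain ⟨s, hs⟩ : ∃ s, P.natDegree = s + 1 := ⟨P.natDegree - 1, by omega⟩
  have hf' : f ∈ MvPolynomial.homogeneousSubmodule (Fin (n + 1)) k d := hf
  have hf0 : f ≠ 0 := fun h => hfI (h ▸ I.zero_mem)
  have hI'h : (I ⊔ Ideal.span {f}).IsHomogeneous (CohB1.polyGrading n k) := by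
    refine hIh.sup (Ideal.homogeneous_span _ _ ?_)
    rintro x hx
    rw [Set.mem_singleton_iff] at hx
    subst hx
    exact ⟨d, hf'⟩
  have hP' : IsHilb (I ⊔ Ideal.span {f}) (P - shiftP P d) := by
    obtain ⟨m₀, hm₀⟩ := hP
    refine ⟨m₀ + d, fun m hm => ?_⟩
    have h1 := hq_add hIh hf' hf0 m
    rw [colon_of_prime hfI] at h1
    have hdm : d ≤ m := by omega
    have h2 : hqs I d m = P.eval ((m : ℚ) - d) := by
      unfold hqs
      rw [if_pos hdm, ← hm₀ (m - d) (by omega)]
      congr 1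
      push_cast [Nat.cast_sub hdm]
      rfl
    rw [eval_sub, shiftP_eval, hm₀ m (by omega), ← h2]
    linarith
  obtain ⟨hnd, hlc⟩ := diff_props P d s hs hd
  have hform := degree_formula (I ⊔ Ideal.span {f}) hI'h (P - shiftP P d) hP' r p hpinj hpmin Qp hQp
  have hdegs : ∀ i, (Qp i).natDegree = s := by
    intro i
    have hmem : p i ∈ (I ⊔ Ideal.span {f}).minimalPrimes := (hpmin _).mpr ⟨i, rfl⟩
    have := natDegree_of_minimal I hIh P ⟨_, fun m hm => (hP.choose_spec m hm)⟩ hdim f hfI (p i) hmem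
      (isHomogeneous_of_mem_minimalPrimes hI'h hmem) (Qp i) (hQp i)
    omega
  rw [hnd, hlc] at hform
  have hform' : (s.factorial : ℚ) * (((s : ℚ) + 1) * d * P.leadingCoeff) =
      ∑ i : Fin r, ((Qp i).natDegree.factorial : ℚ) * (Qp i).leadingCoeff *
        (lam (p i) (I ⊔ Ideal.span {f})).toNat := by
    rw [hform]
    apply Finset.sum_congr rfl
    intro i _
    rw [if_pos (hdegs i)]
  rw [← hform', hs, Nat.factorial_succ]
  push_cast
  ring

end Main

end Groth.Agent.Lib.Helper6.ProjDeg
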