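import Mathlib
import Groth.Agent.Lib.Helper6.ProjDeg.PDe

set_option autoImplicit false
set_option linter.unusedSectionVars false
set_option linter.unusedVariables false
set_option linter.unusedSimpArgs false
set_option linter.style.haveILetI false
set_option maxHeartbeats 400000

/-!
# Existence of the Hilbert polynomial of a homogeneous ideal of a polynomial ring
-/

open Filter Topology

universe u v

noncomputable section

namespace Groth.Agent.Lib.Helper6.ProjDeg

section Integrate

open Polynomial

theorem shiftP_add (P Q : ℚ[X]) (ℓ : ℕ) : shiftP (P + Q) ℓ = shiftP P ℓ + shiftP Q ℓ := by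
  unfold shiftP
  rw [add_comp]

/-- discrete integration of polynomials -/
theorem exists_sub_shiftP_eq (s : ℕ) : ∀ Q : ℚ[X], Q.degree < s → ∃ S : ℚ[X], S - shiftP S 1 = Q := by
  induction s with
  | zero =>
    intro Q hQ
    have : Q = 0 := by
      rw [← degree_eq_bot]
      have h0 : Q.degree < (0 : ℕ) := hQ
      rw [Nat.cast_zero] at h0
      exact (Nat.WithBot.lt_zero_iff).mp h0
    subst this
    exact ⟨0, by simp [shiftP]⟩
  | succ s ih =>
    intro Q hQ
    by_cases hc : Q.coeff s = 0
    · apply ih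
      rw [degree_lt_iff_coeff_zero]
      intro m hm
      rcases Nat.lt_or_ge s m with h | h
      · exact coeff_eq_zero_of_degree_lt (lt_of_lt_of_le hQ (by exact_mod_cast h))
      · have : m = s := le_antisymm h hm
        rw [this, hc]
    · set T : ℚ[X] := C (Q.coeff s / ((s : ℚ) + 1)) * X ^ (s + 1) with hT
      have hs0 : ((s : ℚ) + 1) ≠ 0 := by positivity
      have hne : Q.coeff s / ((s : ℚ) + 1) ≠ 0 := div_ne_zero hc hs0
      have hTdeg : T.natDegree = s + 1 := natDegree_C_mul_X_pow _ _ hne
      have hTlc : T.leadingCoeff = Q.coeff s / ((s : ℚ) + 1) := by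
        rw [hT, leadingCoeff_mul, leadingCoeff_C, leadingCoeff_X_pow, mul_one]
      obtain ⟨hnd, hlc⟩ := diff_props T 1 s hTdeg one_pos
      have hD : (T - shiftP T 1).coeff s = Q.coeff s := by
        have : (T - shiftP T 1).leadingCoeff = Q.coeff s := by
          rw [hlc, hTlc, Nat.cast_one]
          field_simp
        rwa [leadingCoeff, hnd] at this
      have hlt : (Q - (T - shiftP T 1)).degree < s := by
        rw [degree_lt_iff_coeff_zero]
        intro m hm
        rw [coeff_sub]
        rcases Nat.lt_or_ge s m with h | h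
        · rw [coeff_eq_zero_of_degree_lt (lt_of_lt_of_le hQ (by exact_mod_cast h)),
            coeff_eq_zero_of_natDegree_lt (by rw [hnd]; exact h), sub_zero]
        · have : m = s := le_antisymm h hm
          rw [this, hD, sub_self]
      obtain ⟨S', hS'⟩ := ih _ hlt
      refine ⟨S' + T, ?_⟩
      rw [shiftP_add]
      have : S' + T - (shiftP S' 1 + shiftP T 1) = (S' - shiftP S' 1) + (T - shiftP T 1) := by ring
      rw [this, hS']
      ring

theorem exists_integral (Q : ℚ[X]) : ∃ S : ℚ[X], S - shiftP S 1 = Q := by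
  apply exists_sub_shiftP_eq (Q.natDegree + 1) Q
  exact lt_of_le_of_lt degree_le_natDegree (by exact_mod_cast Nat.lt_succ_self _)

/-- a function with polynomial first difference is eventually polynomial -/
theorem exists_poly_of_diff (h : ℕ → ℚ) (Q : ℚ[X]) (M : ℕ) (hM : 1 ≤ M)
    (hd : ∀ m, M ≤ m → h m - h (m - 1) = Q.eval (m : ℚ)) :
    ∃ P : ℚ[X], ∀ m, M ≤ m → P.eval (m : ℚ) = h m := by
  obtain ⟨S, hS⟩ := exists_integral Q
  have hS' : ∀ m : ℕ, 1 ≤ m → S.eval (m : ℚ) - S.eval ((m - 1 : ℕ) : ℚ) = Q.eval (m : ℚ) := by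
    intro m hm
    rw [← hS, eval_sub, shiftP_eval]
    push_cast [Nat.cast_sub hm]
    rfl
  have key : ∀ t : ℕ, h (M + t) - S.eval ((M + t : ℕ) : ℚ) = h M - S.eval (M : ℚ) := by
    intro t
    induction t with
    | zero => rfl
    | succ t ih =>
      have h1 := hd (M + (t + 1)) (by omega)
      have h2 := hS' (M + (t + 1)) (by omega)
      have e : M + (t + 1) - 1 = M + t := by omega
      rw [e] at h1 h2
      rw [← ih]
      linarith
  refine ⟨S + C (h M - S.eval (M : ℚ)), fun m hm => ?_⟩
  obtain ⟨t, rfl⟩ := Nat.exists_eq_add_of_le hm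
  rw [eval_add, eval_C]
  have := key t
  linarith

end Integrate

section Exists

open MvPolynomial DirectSum

variable {k : Type u} [Field k] {σ : Type v} [Finite σ]
  [GradedAlgebra (homogeneousSubmodule σ k)]

/-- if an ideal contains the variables it contains all forms of positive degree -/
theorem mem_of_forall_X_mem {I : Ideal (MvPolynomial σ k)} (hX : ∀ j : σ, (X j : MvPolynomial σ k) ∈ I)
    {m : ℕ} (hm : 1 ≤ m) {x : MvPolynomial σ k} (hx : x ∈ homogeneousSubmodule σ k m) : x ∈ I := by
  classical
  rw [← MvPolynomial.support_sum_monomial_coeff x]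
  refine Ideal.sum_mem _ fun d hd => ?_
  have hw : Finsupp.weight (1 : σ → ℕ) d = m := hx (MvPolynomial.mem_support_iff.mp hd)
  obtain ⟨j, hj⟩ : ∃ j, d j ≠ 0 := by
    by_contra hcon
    push Not at hcon
    have hd0 : d = 0 := Finsupp.ext hcon
    rw [hd0, map_zero] at hw
    omega
  have hdvd : (X j : MvPolynomial σ k) ∣ monomial d (x.coeff d) :=
    MvPolynomial.X_dvd_monomial.mpr (Or.inr hj)
  obtain ⟨y, hy⟩ := hdvd
  rw [hy]
  exact I.mul_mem_right _ (hX j)

/-- sums of shifted Hilbert functions of ideals having Hilbert polynomials are eventually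
polynomial -/
theorem exists_poly_list (L : List (Ideal (MvPolynomial σ k) × ℕ))
    (h : ∀ x ∈ L, ∃ Q, IsHilb x.1 Q) :
    ∃ P : Polynomial ℚ, ∀ᶠ m : ℕ in atTop,
      (L.map fun x => hqs x.1 x.2 m).sum = P.eval (m : ℚ) := by
  induction L with
  | nil => exact ⟨0, Eventually.of_forall fun m => by simp⟩
  | cons a L ih =>
    obtain ⟨Q, hQ⟩ := h a List.mem_cons_self
    obtain ⟨P', hP'⟩ := ih fun x hx => h x (List.mem_cons_of_mem _ hx)
    refine ⟨shiftP Q a.2 + P', ?_⟩
    filter_upwards [hQ.hqs_eventually a.2, hP'] with m h1 h2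
    rw [List.map_cons, List.sum_cons, h1, h2, Polynomial.eval_add]

theorem isHilb_of_eventually {I : Ideal (MvPolynomial σ k)} {P : Polynomial ℚ}
    (h : ∀ᶠ m : ℕ in atTop, hq I m = P.eval (m : ℚ)) : IsHilb I P := by
  obtain ⟨m₀, hm₀⟩ := eventually_atTop.mp h
  exact ⟨m₀, fun m hm => (hm₀ m hm).symm⟩

/-- **Hilbert's theorem**: every homogeneous ideal of a polynomial ring over a field has a Hilbert
polynomial. -/
theorem exists_isHilb (I : Ideal (MvPolynomial σ k))
    (hI : I.IsHomogeneous (homogeneousSubmodule σ k)) : ∃ Q, IsHilb I Q := by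
  revert hI
  refine IsNoetherian.induction (P := fun I : Submodule (MvPolynomial σ k) (MvPolynomial σ k) =>
    Ideal.IsHomogeneous (homogeneousSubmodule σ k) I → ∃ Q, IsHilb I Q) ?_ I
  intro I ih hI
  by_cases hprime : Ideal.IsPrime I
  · by_cases hX : ∀ j : σ, (X j : MvPolynomial σ k) ∈ I
    · refine ⟨0, 1, fun m hm => ?_⟩
      rw [Polynomial.eval_zero]
      have : piece I m = homogeneousSubmodule σ k m := by
        apply le_antisymm (piece_le I m)
        intro x hx
        exact mem_piece.mpr ⟨mem_of_forall_X_mem hX hm hx, hx⟩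
      unfold hq
      rw [this, sub_self]
    · push Not at hX
      obtain ⟨j, hj⟩ := hX
      have hz : (X j : MvPolynomial σ k) ∈ homogeneousSubmodule σ k 1 := isHomogeneous_X k j
      have hz0 : (X j : MvPolynomial σ k) ≠ 0 := fun h => hj (h ▸ I.zero_mem)
      have hlt : I < I ⊔ Ideal.span {X j} := by
        refine lt_of_le_of_ne le_sup_left (fun h => hj ?_)
        rw [h]
        exact Ideal.mem_sup_right (Ideal.mem_span_singleton_self _)
      have hhom : (I ⊔ Ideal.span {(X j : MvPolynomial σ k)}).IsHomogeneous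
          (homogeneousSubmodule σ k) := by
        refine hI.sup (Ideal.homogeneous_span _ _ ?_)
        rintro x hx
        rw [Set.mem_singleton_iff] at hx
        subst hx
        exact ⟨1, hz⟩
      obtain ⟨Q, m₀, hQ⟩ := ih _ hlt hhom
      haveI : Ideal.IsPrime I := hprime
      have hadd : ∀ m, hq I m = hq (I ⊔ Ideal.span {X j}) m + hqs I 1 m := by
        intro m
        have := hq_add hI hz hz0 m
        rwa [colon_of_prime hj] at this
      obtain ⟨P, hP⟩ := exists_poly_of_diff (hq I) Q (max m₀ 1) (le_max_right _ _) (by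
        intro m hm
        have h1 := hadd m
        have hm1 : 1 ≤ m := le_trans (le_max_right _ _) hm
        have h2 : hqs I 1 m = hq I (m - 1) := by
          unfold hqs
          rw [if_pos hm1]
        rw [h2, ← hQ m (le_trans (le_max_left _ _) hm)] at h1
        linarith)
      exact ⟨P, max m₀ 1, hP⟩
  · obtain ⟨L, hL1, hL2, -⟩ := exists_isFilt I hI
    have hL : ∀ x ∈ L, ∃ Q, IsHilb x.1 Q := by
      intro x hx
      obtain ⟨hxP, hxH, hxI⟩ := hL1 x hx
      have hne : I ≠ x.1 := fun h => hprime (h ▸ hxP)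
      exact ih x.1 (lt_of_le_of_ne hxI hne) hxH
    obtain ⟨P, hP⟩ := exists_poly_list L hL
    refine ⟨P, isHilb_of_eventually ?_⟩
    filter_upwards [hP] with m hm
    rw [hL2 m, hm]

end Exists

end Groth.Agent.Lib.Helper6.ProjDeg
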