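import Mathlib
import Groth.Agent.Lib.Helper6.ProjDeg.PDf

set_option autoImplicit false
set_option linter.unusedSectionVars false
set_option linter.unusedVariables false
set_option linter.unusedSimpArgs false
set_option linter.style.haveILetI false
set_option maxHeartbeats 400000

/-!
# A general asymptotic formula for the Hilbert function in terms of localized lengths
-/

open Filter Topology

universe u v

noncomputable section

namespace Groth.Agent.Lib.Helper6.ProjDeg

section Asym2

open Polynomial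

/-- a finite `d`-asymptotic limit bounds the degree -/
theorem natDegree_le_of_asym (P : ℚ[X]) (d : ℕ) (c : ℚ)
    (h : Asym (fun m => P.eval (m : ℚ)) d c) : P.natDegree ≤ d := by
  by_contra hlt
  push Not at hlt
  set e := P.natDegree with he
  have h1 : Asym (fun m => P.eval (m : ℚ)) e P.leadingCoeff := asym_poly P e le_rfl
  have h2 : Asym (fun m => P.eval (m : ℚ)) e 0 := by
    unfold Asym at h ⊢
    have h3 : Tendsto (fun m : ℕ => ((m : ℚ) ^ (e - d))⁻¹) atTop (𝓝 0) := by
      have : Tendsto (fun m : ℕ => (m : ℚ) ^ (e - d)) atTop atTop :=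
        (tendsto_pow_atTop (by omega)).comp (tendsto_natCast_atTop_atTop (R := ℚ))
      exact tendsto_inv_atTop_zero.comp this
    have h4 := h.mul h3
    rw [mul_zero] at h4
    refine h4.congr' ?_
    filter_upwards [eventually_gt_atTop 0] with m hm
    have hm0 : (m : ℚ) ≠ 0 := by exact_mod_cast hm.ne'
    have e1 : (m : ℚ) ^ e = (m : ℚ) ^ d * (m : ℚ) ^ (e - d) := by
      rw [← pow_add]
      congr 1
      omega
    rw [e1]
    field_simp
  have h5 := asym_unique h1 h2
  have h6 : P = 0 := leadingCoeff_eq_zero.mp h5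
  rw [h6] at he
  simp at he
  omega

end Asym2

open MvPolynomial DirectSum

variable {k : Type u} [Field k] {σ : Type v} [Finite σ]
  [GradedAlgebra (homogeneousSubmodule σ k)]

open Classical in
/-- the localized length as a natural number, zero at non-primes -/
def lamN (p I : Ideal (MvPolynomial σ k)) : ℕ :=
  if h : p.IsPrime then (@lam k _ σ p h I).toNat else 0

theorem lamN_eq (p I : Ideal (MvPolynomial σ k)) [hp : p.IsPrime] : lamN p I = (lam p I).toNat := by
  unfold lamN
  rw [dif_pos hp]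

/-- **General asymptotic formula.** -/
theorem asym_formula (I : Ideal (MvPolynomial σ k))
    (hI : I.IsHomogeneous (homogeneousSubmodule σ k)) (d : ℕ)
    (T : Finset (Ideal (MvPolynomial σ k))) (Qf : Ideal (MvPolynomial σ k) → Polynomial ℚ)
    (h1 : ∀ p ∈ T, p.IsPrime) (h2 : ∀ p ∈ T, IsHilb p (Qf p))
    (h3 : ∀ p ∈ T, (Qf p).natDegree ≤ d)
    (h4 : ∀ q : Ideal (MvPolynomial σ k), q.IsPrime →
      q.IsHomogeneous (homogeneousSubmodule σ k) → I ≤ q → q ∉ T → ∀ ℓ, Asym (hqs q ℓ) d 0)
    (h5 : ∀ p ∈ T, ∀ q : Ideal (MvPolynomial σ k), q.IsPrime → I ≤ q → q ≤ p → q = p) :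
    Asym (hq I) d (∑ p ∈ T, (Qf p).coeff d * (lamN p I : ℚ)) := by
  classical
  obtain ⟨L, hL1, hL2, hL3⟩ := exists_isFilt I hI
  set c : Ideal (MvPolynomial σ k) × ℕ → ℚ := fun x =>
    ∑ p ∈ T, if x.1 = p then (Qf p).coeff d else 0 with hc
  have hasym : ∀ x ∈ L, Asym (hqs x.1 x.2) d (c x) := by
    intro x hx
    obtain ⟨hxP, hxH, hxI⟩ := hL1 x hx
    by_cases hmem : x.1 ∈ T
    · have hci : c x = (Qf x.1).coeff d := by
        simp only [hc]
        rw [Finset.sum_eq_single x.1]
        · rw [if_pos rfl]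
        · intro p _ hp
          rw [if_neg (Ne.symm hp)]
        · intro h
          exact absurd hmem h
      rw [hci]
      exact (h2 x.1 hmem).asym_hqs x.2 d (h3 x.1 hmem)
    · have hc0 : c x = 0 := by
        simp only [hc]
        apply Finset.sum_eq_zero
        intro p hp
        rw [if_neg]
        rintro rfl
        exact hmem hp
      rw [hc0]
      exact h4 x.1 hxP hxH hxI hmem x.2
  have hA : Asym (hq I) d (L.map c).sum := by
    have := asym_list_sum L (fun x => hqs x.1 x.2) c d hasym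
    refine asym_congr ?_ this
    exact Eventually.of_forall fun m => (hL2 m).symm
  have hlam : ∀ p ∈ T, ∀ (hp : p.IsPrime), ∀ x ∈ L,
      @lam k _ σ p hp x.1 = if x.1 = p then 1 else 0 := by
    intro p hpT hp x hx
    obtain ⟨hxP, hxH, hxI⟩ := hL1 x hx
    split_ifs with h
    · subst h
      exact Groth.Agent.Helper8.Mult.length_localizedModule_quotient_self x.1
    · have hnle : ¬ x.1 ≤ p := fun hle => h (h5 p hpT x.1 hxP hxI hle)
      haveI := Groth.Agent.Helper8.Mult.subsingleton_localizedModule_quotient x.1 p hnle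
      exact Module.length_eq_zero
  have hcount : ∀ p ∈ T, lamN p I = (L.map fun x => if x.1 = p then (1 : ℕ) else 0).sum := by
    intro p hpT
    haveI hp := h1 p hpT
    rw [lamN_eq, hL3 p, List.map_congr_left (hlam p hpT hp), list_sum_ite_enat,
      ENat.toNat_natCast]
  have hsum : (L.map c).sum = ∑ p ∈ T, (Qf p).coeff d * (lamN p I : ℚ) := by
    simp only [hc]
    rw [list_sum_finset_sum]
    apply Finset.sum_congr rfl
    intro p hp
    rw [list_sum_ite_rat, hcount p hp]
  rw [← hsum]
  exact hA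

/-- coefficient form of the asymptotic formula -/
theorem coeff_formula (I : Ideal (MvPolynomial σ k))
    (hI : I.IsHomogeneous (homogeneousSubmodule σ k)) (d : ℕ)
    (T : Finset (Ideal (MvPolynomial σ k))) (Qf : Ideal (MvPolynomial σ k) → Polynomial ℚ)
    (h1 : ∀ p ∈ T, p.IsPrime) (h2 : ∀ p ∈ T, IsHilb p (Qf p))
    (h3 : ∀ p ∈ T, (Qf p).natDegree ≤ d)
    (h4 : ∀ q : Ideal (MvPolynomial σ k), q.IsPrime →
      q.IsHomogeneous (homogeneousSubmodule σ k) → I ≤ q → q ∉ T → ∀ ℓ, Asym (hqs q ℓ) d 0)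
    (h5 : ∀ p ∈ T, ∀ q : Ideal (MvPolynomial σ k), q.IsPrime → I ≤ q → q ≤ p → q = p)
    (P : Polynomial ℚ) (hP : IsHilb I P) :
    P.coeff d = ∑ p ∈ T, (Qf p).coeff d * (lamN p I : ℚ) := by
  have hA := asym_formula I hI d T Qf h1 h2 h3 h4 h5
  have hB : Asym (fun m => P.eval (m : ℚ)) d (∑ p ∈ T, (Qf p).coeff d * (lamN p I : ℚ)) :=
    asym_congr hP.eventually hA
  have hdeg := natDegree_le_of_asym P d _ hB
  exact asym_unique (asym_poly P d hdeg) hB

end Groth.Agent.Lib.Helper6.ProjDeg
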