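import Mathlib
import Groth.Prelude
import Groth.Agent.Lib.Helper2.Gor.LinkCMGlobal
import Groth.Agent.Lib.Helper2.Gor.DoubleAnn
import Groth.Agent.Lib.Helper8.Sk1
import Groth.Agent.Lib.Helper8.GorFlat5

set_option autoImplicit false
set_option linter.unusedSectionVars false
set_option linter.unusedVariables false
set_option linter.unusedSimpArgs false
set_option linter.style.haveILetI false
set_option maxHeartbeats 400000

/-!
# Lengths of linked ideals at minimal primes of a Gorenstein quotient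
-/

universe u

noncomputable section

namespace Groth.Agent.Lib.Helper6.ProjDeg

open LocCoh

section ColonLoc

variable {A : Type u} [CommRing A] (S : Submonoid A) (B : Type u) [CommRing B] [Algebra A B]
  [IsLocalization S B]

include S in
lemma map_colon_le (N I : Ideal A) :
    (N.colon (I : Set A)).map (algebraMap A B) ≤
      (N.map (algebraMap A B)).colon ((I.map (algebraMap A B) : Ideal B) : Set B) := by
  intro b hb
  rw [Submodule.mem_colon]
  intro x hx
  have h1 : b * x ∈ ((N.colon (I : Set A)) * I).map (algebraMap A B) := by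
    rw [Ideal.map_mul]
    exact Ideal.mul_mem_mul hb hx
  have h2 : (N.colon (I : Set A)) * I ≤ N := by
    rw [Ideal.mul_le]
    intro a ha y hy
    rw [Submodule.mem_colon] at ha
    exact ha y hy
  exact Ideal.map_mono h2 h1

include S in
lemma colon_map_le (N I : Ideal A) (hI : I.FG) :
    (N.map (algebraMap A B)).colon ((I.map (algebraMap A B) : Ideal B) : Set B) ≤
      (N.colon (I : Set A)).map (algebraMap A B) := by
  refine Submodule.fg_induction (R := A) (M := A) (motive := fun I _ =>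
    (N.map (algebraMap A B)).colon ((Ideal.map (algebraMap A B) I : Ideal B) : Set B) ≤
      (N.colon (I : Set A)).map (algebraMap A B)) ?_ ?_ I hI
  · intro g b hb
    have h0 : Ideal.map (algebraMap A B) (Submodule.span A {g}) =
        Ideal.span {algebraMap A B g} := by
      change Ideal.map (algebraMap A B) (Ideal.span {g}) = _
      rw [Ideal.map_span, Set.image_singleton]
    rw [h0, Ideal.colon_span, Submodule.mem_colon_singleton, smul_eq_mul] at hb
    obtain ⟨a, s, rfl⟩ := IsLocalization.exists_mk'_eq S b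
    rw [IsLocalization.mk'_mem_map_algebraMap_iff]
    have h1 : IsLocalization.mk' B (g * a) s ∈ N.map (algebraMap A B) := by
      rw [← IsLocalization.mul_mk'_eq_mk'_of_mul, mul_comm]
      exact hb
    rw [IsLocalization.mk'_mem_map_algebraMap_iff] at h1
    obtain ⟨m, hm, hmem⟩ := h1
    refine ⟨m, hm, ?_⟩
    change m * a ∈ N.colon ((Ideal.span {g} : Ideal A) : Set A)
    rw [Ideal.colon_span, Submodule.mem_colon_singleton, smul_eq_mul]
    have : m * a * g = m * (g * a) := by ring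
    rw [this]
    exact hmem
  · intro I₁ I₂ _ _ h1 h2
    change (N.map (algebraMap A B)).colon
        ((Ideal.map (algebraMap A B) (I₁ ⊔ I₂ : Ideal A) : Ideal B) : Set B) ≤
      (N.colon ((I₁ ⊔ I₂ : Ideal A) : Set A)).map (algebraMap A B)
    rw [Ideal.map_sup, Groth.Agent.Helper2.Gor.colon_sup, Groth.Agent.Helper2.Gor.colon_sup,
      IsLocalization.map_inf S B]
    exact inf_le_inf h1 h2

end ColonLoc

section Local

variable (A : Type u) [CommRing A] (𝔠 I : Ideal A)

theorem annihilator_map_mk :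
    (Submodule.annihilator (I.map (Ideal.Quotient.mk 𝔠)) : Ideal (A ⧸ 𝔠)) =
      (𝔠.colon (I : Set A)).map (Ideal.Quotient.mk 𝔠) := by
  ext y
  obtain ⟨x, rfl⟩ := Ideal.Quotient.mk_surjective y
  rw [Submodule.mem_annihilator]
  constructor
  · intro hx
    apply Ideal.mem_map_of_mem
    rw [Submodule.mem_colon]
    intro i hi
    have := hx (Ideal.Quotient.mk 𝔠 i) (Ideal.mem_map_of_mem _ hi)
    rw [smul_eq_mul, ← map_mul, Ideal.Quotient.eq_zero_iff_mem] at this
    exact this
  · intro hx b hb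
    rw [Ideal.mem_map_iff_of_surjective _ Ideal.Quotient.mk_surjective] at hx hb
    obtain ⟨x', hx', hxx'⟩ := hx
    obtain ⟨i, hi, rfl⟩ := hb
    rw [← hxx', smul_eq_mul, ← map_mul, Ideal.Quotient.eq_zero_iff_mem]
    exact (Submodule.mem_colon.mp hx') i hi

theorem length_quotient_colon_add (h : 𝔠 ≤ I) [IsLocalRing (A ⧸ 𝔠)] [IsArtinianRing (A ⧸ 𝔠)]
    [IsGorensteinLocalRing (A ⧸ 𝔠)] :
    Module.length A (A ⧸ 𝔠) =
      Module.length A (A ⧸ I) + Module.length A (A ⧸ 𝔠.colon (I : Set A)) := by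
  have h1 := Groth.Agent.Helper2.Gor.length_annihilator_eq (A ⧸ 𝔠) (I.map (Ideal.Quotient.mk 𝔠))
  have h2 := Groth.Agent.Helper2.Gor.length_self_eq_add (A ⧸ 𝔠)
    (Submodule.annihilator (I.map (Ideal.Quotient.mk 𝔠)) : Ideal (A ⧸ 𝔠))
  rw [h1, annihilator_map_mk A 𝔠 I] at h2
  have hsurj : Function.Surjective (algebraMap A (A ⧸ 𝔠)) := Ideal.Quotient.mk_surjective
  have a1 : Module.length A (A ⧸ 𝔠) = Module.length (A ⧸ 𝔠) (A ⧸ 𝔠) :=
    Module.length_eq_of_surjective hsurj
  have a2 : Module.length A ((A ⧸ 𝔠) ⧸ I.map (Ideal.Quotient.mk 𝔠)) =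
      Module.length (A ⧸ 𝔠) ((A ⧸ 𝔠) ⧸ I.map (Ideal.Quotient.mk 𝔠)) :=
    Module.length_eq_of_surjective hsurj
  have a3 : Module.length A ((A ⧸ 𝔠) ⧸ (𝔠.colon (I : Set A)).map (Ideal.Quotient.mk 𝔠)) =
      Module.length (A ⧸ 𝔠) ((A ⧸ 𝔠) ⧸ (𝔠.colon (I : Set A)).map (Ideal.Quotient.mk 𝔠)) :=
    Module.length_eq_of_surjective hsurj
  have e1 : ((A ⧸ 𝔠) ⧸ I.map (Ideal.Quotient.mk 𝔠)) ≃ₗ[A] (A ⧸ I) :=
    (DoubleQuot.quotQuotEquivQuotOfLEₐ A h).toLinearEquiv
  have hJ : 𝔠 ≤ 𝔠.colon (I : Set A) := Ideal.le_colon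
  have e2 : ((A ⧸ 𝔠) ⧸ (𝔠.colon (I : Set A)).map (Ideal.Quotient.mk 𝔠)) ≃ₗ[A]
      (A ⧸ 𝔠.colon (I : Set A)) :=
    (DoubleQuot.quotQuotEquivQuotOfLEₐ A hJ).toLinearEquiv
  rw [← a1, ← a2, ← a3, e1.length_eq, e2.length_eq] at h2
  exact h2

end Local

section Transfer

variable (A : Type u) [CommRing A] [IsNoetherianRing A] (𝔠 : Ideal A)
  [hG : IsGorensteinRing (A ⧸ 𝔠)] (p : Ideal A) [hp : p.IsPrime]

include hG in
theorem gor_local_quotient (hmin : p ∈ 𝔠.minimalPrimes) :
    ∃ (_ : IsLocalRing (Localization.AtPrime p ⧸ 𝔠.map (algebraMap A (Localization.AtPrime p))))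
      (_ : IsArtinianRing
        (Localization.AtPrime p ⧸ 𝔠.map (algebraMap A (Localization.AtPrime p)))),
      IsGorensteinLocalRing
        (Localization.AtPrime p ⧸ 𝔠.map (algebraMap A (Localization.AtPrime p))) := by
  have h𝔠p : 𝔠 ≤ p := hmin.1.2
  haveI hP : (p.map (Ideal.Quotient.mk 𝔠)).IsPrime :=
    Ideal.isPrime_map_quotientMk_of_isPrime h𝔠p
  have hcm : (p.map (Ideal.Quotient.mk 𝔠)).comap (Ideal.Quotient.mk 𝔠) = p := by
    rw [Ideal.comap_map_of_surjective _ Ideal.Quotient.mk_surjective, ← RingHom.ker_eq_comap_bot,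
      Ideal.mk_ker, sup_eq_left.mpr h𝔠p]
  have hPmin : p.map (Ideal.Quotient.mk 𝔠) ∈ minimalPrimes (A ⧸ 𝔠) := by
    refine ⟨⟨hP, bot_le⟩, ?_⟩
    rintro Q ⟨hQ, -⟩ hQP
    haveI := hQ
    have h1 : Q.comap (Ideal.Quotient.mk 𝔠) ≤ p := by
      rw [← hcm]
      exact Ideal.comap_mono hQP
    have h2 : 𝔠 ≤ Q.comap (Ideal.Quotient.mk 𝔠) := by
      intro a ha
      rw [Ideal.mem_comap, Ideal.Quotient.eq_zero_iff_mem.mpr ha]
      exact zero_mem _
    have h3 := hmin.2 ⟨Ideal.comap_isPrime _ Q, h2⟩ h1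
    have h4 := Ideal.map_mono (f := Ideal.Quotient.mk 𝔠) h3
    rwa [Ideal.map_comap_of_surjective _ Ideal.Quotient.mk_surjective] at h4
  haveI : IsNoetherianRing (A ⧸ 𝔠) := inferInstance
  haveI hGl : IsGorensteinLocalRing (Localization.AtPrime (p.map (Ideal.Quotient.mk 𝔠))) :=
    hG.isGorensteinLocalRing_localization _
  have hdim : ringKrullDim (Localization.AtPrime (p.map (Ideal.Quotient.mk 𝔠))) = 0 := by
    rw [IsLocalization.AtPrime.ringKrullDim_eq_height (p.map (Ideal.Quotient.mk 𝔠))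
      (Localization.AtPrime (p.map (Ideal.Quotient.mk 𝔠)))]
    have : (p.map (Ideal.Quotient.mk 𝔠)).height = 0 := Ideal.height_eq_zero_iff.mpr hPmin
    rw [this]
    rfl
  haveI : Ring.KrullDimLE 0 (Localization.AtPrime (p.map (Ideal.Quotient.mk 𝔠))) :=
    (Ring.krullDimLE_iff).mpr hdim.le
  haveI : IsArtinianRing (Localization.AtPrime (p.map (Ideal.Quotient.mk 𝔠))) :=
    isArtinianRing_iff_krullDimLE_zero.mpr inferInstance
  let e := Groth.Agent.Helper8.Sk.locQuotEquiv A 𝔠 p h𝔠p
  exact ⟨e.isLocalRing, e.isArtinianRing,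
    Groth.Agent.Helper8.GorFlat.isGorensteinLocalRing_of_ringEquiv e hGl⟩

include hG in
/-- **Lengths of linked ideals** at a minimal prime of a Gorenstein quotient. -/
theorem length_localized_colon_add (I : Ideal A) (h : 𝔠 ≤ I) (hmin : p ∈ 𝔠.minimalPrimes) :
    Module.length (Localization.AtPrime p) (LocalizedModule p.primeCompl (A ⧸ 𝔠)) =
      Module.length (Localization.AtPrime p) (LocalizedModule p.primeCompl (A ⧸ I)) +
        Module.length (Localization.AtPrime p)
          (LocalizedModule p.primeCompl (A ⧸ 𝔠.colon (I : Set A))) ∧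
    Module.length (Localization.AtPrime p) (LocalizedModule p.primeCompl (A ⧸ 𝔠)) ≠ ⊤ := by
  obtain ⟨i1, i2, i3⟩ := gor_local_quotient A 𝔠 p hmin
  have hI' : 𝔠.map (algebraMap A (Localization.AtPrime p)) ≤
      I.map (algebraMap A (Localization.AtPrime p)) := Ideal.map_mono h
  have h1 := length_quotient_colon_add (Localization.AtPrime p)
    (𝔠.map (algebraMap A (Localization.AtPrime p)))
    (I.map (algebraMap A (Localization.AtPrime p))) hI'
  have h2 : (𝔠.map (algebraMap A (Localization.AtPrime p))).colon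
      ((I.map (algebraMap A (Localization.AtPrime p)) : Ideal (Localization.AtPrime p)) :
        Set (Localization.AtPrime p)) =
      (𝔠.colon (I : Set A)).map (algebraMap A (Localization.AtPrime p)) :=
    le_antisymm (colon_map_le p.primeCompl (Localization.AtPrime p) 𝔠 I (IsNoetherian.noetherian I))
      (map_colon_le p.primeCompl (Localization.AtPrime p) 𝔠 I)
  rw [h2] at h1
  rw [(Groth.Agent.Helper2.Gor.quotLocEquiv p 𝔠).length_eq,
    (Groth.Agent.Helper2.Gor.quotLocEquiv p I).length_eq,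
    (Groth.Agent.Helper2.Gor.quotLocEquiv p (𝔠.colon (I : Set A))).length_eq]
  refine ⟨h1, ?_⟩
  rw [Module.length_eq_of_surjective
    (R := Localization.AtPrime p ⧸ 𝔠.map (algebraMap A (Localization.AtPrime p)))
    Ideal.Quotient.mk_surjective]
  exact Groth.Agent.Helper8.GorArt.length_self_ne_top _

end Transfer

end Groth.Agent.Lib.Helper6.ProjDeg
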