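import Mathlib
import Groth.Agent.Lib.Helper6.ProjDeg.PDg
import Groth.Agent.Lib.Helper6.ProjDeg.PDh
import Groth.Agent.Lib.Helper6.HilbDim.HDb
import Groth.Agent.Lib.Helper4.DimFT1

set_option autoImplicit false
set_option linter.unusedSectionVars false
set_option linter.unusedVariables false
set_option linter.unusedSimpArgs false
set_option linter.style.haveILetI false
set_option maxHeartbeats 400000

/-!
# Degrees of linked ideals
-/

open Filter Topology

universe u v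

noncomputable section

namespace Groth.Agent.Lib.Helper6.ProjDeg

open MvPolynomial DirectSum LocCoh

section General

variable {k : Type u} [Field k] {σ : Type v} [Fintype σ] [DecidableEq σ]
  [GradedAlgebra (homogeneousSubmodule σ k)]

theorem isHomogeneous_of_stdGr {I : Ideal (MvPolynomial σ k)}
    (hI : I.IsHomogeneous (GrSyz.stdGr k σ)) : I.IsHomogeneous (homogeneousSubmodule σ k) := by
  obtain ⟨S, hS⟩ := (Ideal.IsHomogeneous.iff_exists (GrSyz.stdGr k σ) I).1 hI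
  rw [hS]
  refine Ideal.homogeneous_span _ _ ?_
  rintro _ ⟨x, _, rfl⟩
  obtain ⟨m, hm⟩ := x.2
  rcases lt_or_ge m 0 with h | h
  · rw [Groth.Agent.Lib.Helper6.HilbDim.stdGr_neg k σ m h, Submodule.mem_bot] at hm
    rw [hm]
    exact ⟨0, Submodule.zero_mem _⟩
  · obtain ⟨t, rfl⟩ := Int.eq_ofNat_of_zero_le h
    exact ⟨t, (Groth.Agent.Lib.Helper6.HilbDim.mem_stdGr_nat k σ t _).1 hm⟩

theorem colon_ideal_isHomogeneous {N I : Ideal (MvPolynomial σ k)}
    (hN : N.IsHomogeneous (homogeneousSubmodule σ k))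
    (hI : I.IsHomogeneous (homogeneousSubmodule σ k)) :
    (N.colon (I : Set (MvPolynomial σ k))).IsHomogeneous (homogeneousSubmodule σ k) := by
  classical
  intro i x hx
  rw [Submodule.mem_colon] at hx ⊢
  intro y hy
  rw [← DirectSum.sum_support_decompose (homogeneousSubmodule σ k) y, Finset.smul_sum]
  refine Ideal.sum_mem _ fun j _ => ?_
  have hyj : (decompose (homogeneousSubmodule σ k) y j : MvPolynomial σ k) ∈ I := hI j hy
  have hxj : x ∈ N.colon {(decompose (homogeneousSubmodule σ k) y j : MvPolynomial σ k)} := by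
    rw [Submodule.mem_colon_singleton]
    exact hx _ hyj
  have := colon_isHomogeneous hN (SetLike.coe_mem (decompose (homogeneousSubmodule σ k) y j)) i hxj
  rwa [Submodule.mem_colon_singleton] at this

theorem isHilb_of_finrank_map (I : Ideal (MvPolynomial σ k)) (P : Polynomial ℚ)
    (h : ∃ j₀ : ℕ, ∀ j : ℕ, j₀ ≤ j →
      (Module.finrank k ↥(Submodule.map (Ideal.Quotient.mkₐ k I).toLinearMap
        (GrSyz.stdGr k σ (j : ℤ))) : ℚ) = P.eval (j : ℚ)) : IsHilb I P := by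
  obtain ⟨j₀, hj⟩ := h
  refine ⟨j₀, fun m hm => ?_⟩
  rw [← hj m hm]
  have h1 := Groth.Agent.Lib.Helper6.HilbDim.finrank_qGr I m
  have h2 : ((Module.finrank k ↥(Submodule.map (Ideal.Quotient.mkₐ k I).toLinearMap
        (GrSyz.stdGr k σ (m : ℤ))) : ℤ) : ℚ) = hq I m := by
    have h3 : (Module.finrank k ↥(Submodule.map (Ideal.Quotient.mkₐ k I).toLinearMap
        (GrSyz.stdGr k σ (m : ℤ))) : ℤ) =
        Module.finrank k (homogeneousSubmodule σ k m) -
        Module.finrank k ↥(Submodule.restrictScalars k I ⊓ homogeneousSubmodule σ k m) := h1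
    rw [h3]
    push_cast
    rfl
  exact_mod_cast h2

end General

section Main

open Polynomial

variable {K : Type u} [Field K] {n : ℕ}

theorem ringKrullDim_mvPoly :
    ringKrullDim (MvPolynomial (Fin (n + 1)) K) = ((n + 1 : ℕ) : WithBot ℕ∞) := by
  rw [MvPolynomial.ringKrullDim_of_isNoetherianRing, ringKrullDim_eq_zero_of_field, zero_add,
    Nat.card_fin]

theorem natDegree_add_height (q : Ideal (MvPolynomial (Fin (n + 1)) K)) [q.IsPrime]
    (hqH : q.IsHomogeneous (CohB1.polyGrading n K)) (Q : ℚ[X]) (hQ : IsHilb q Q) (hQ0 : Q ≠ 0) :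
    (q.height : WithBot ℕ∞) + ((Q.natDegree : WithBot ℕ∞) + 1) = ((n + 1 : ℕ) : WithBot ℕ∞) := by
  have h1 := Groth.Agent.Lib.Helper4.DimFT1.height_add_dim_quotient K
    (MvPolynomial (Fin (n + 1)) K) q
  rw [Groth.Agent.S10907.result K n q hqH Q hQ0 hQ, ringKrullDim_mvPoly] at h1
  exact h1

theorem degree_bound (q : Ideal (MvPolynomial (Fin (n + 1)) K)) [hq : q.IsPrime]
    (hqH : q.IsHomogeneous (CohB1.polyGrading n K)) (Q : ℚ[X]) (hQ : IsHilb q Q) (c : ℕ)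
    (hcn : c ≤ n) (hc : (c : ℕ∞) ≤ q.height) :
    Q.natDegree ≤ n - c ∧ ((c : ℕ∞) < q.height → Q.coeff (n - c) = 0) := by
  by_cases hQ0 : Q = 0
  · subst hQ0
    simp
  · obtain ⟨h, hh⟩ := ENat.ne_top_iff_exists.mp (Ideal.height_ne_top (I := q) hq.ne_top)
    have h1 := natDegree_add_height q hqH Q hQ hQ0
    rw [← hh] at h1 hc
    have h2 : h + (Q.natDegree + 1) = n + 1 := by exact_mod_cast h1
    have hc' : c ≤ h := by exact_mod_cast hc
    refine ⟨by omega, fun hlt => ?_⟩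
    have : c < h := by
      rw [← hh] at hlt
      exact_mod_cast hlt
    exact coeff_eq_zero_of_natDegree_lt (by omega)

/-- **Degrees of linked ideals**: `deg (𝔠 : I) = deg 𝔠 - deg I`. -/
theorem liaison_coeff (c : ℕ) (hcn : c ≤ n) (𝔠 I : Ideal (MvPolynomial (Fin (n + 1)) K))
    (h𝔠 : 𝔠.IsHomogeneous (CohB1.polyGrading n K)) (hI : I.IsHomogeneous (CohB1.polyGrading n K))
    [IsGorensteinRing (MvPolynomial (Fin (n + 1)) K ⧸ 𝔠)] (h𝔠c : 𝔠.height = c) (h𝔠I : 𝔠 ≤ I)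
    (p𝔠 pI pJ : ℚ[X]) (hp𝔠 : IsHilb 𝔠 p𝔠) (hpI : IsHilb I pI)
    (hpJ : IsHilb (𝔠.colon (I : Set (MvPolynomial (Fin (n + 1)) K))) pJ) :
    pJ.coeff (n - c) = p𝔠.coeff (n - c) - pI.coeff (n - c) := by
  classical
  have hJ : (𝔠.colon (I : Set (MvPolynomial (Fin (n + 1)) K))).IsHomogeneous
      (CohB1.polyGrading n K) := colon_ideal_isHomogeneous h𝔠 hI
  have h𝔠J : 𝔠 ≤ 𝔠.colon (I : Set (MvPolynomial (Fin (n + 1)) K)) := Ideal.le_colon
  let T : Finset (Ideal (MvPolynomial (Fin (n + 1)) K)) :=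
    (Ideal.finite_minimalPrimes_of_isNoetherianRing (MvPolynomial (Fin (n + 1)) K)
      𝔠).toFinset.filter (fun p => p.height = c)
  have hT : ∀ p, p ∈ T ↔ p ∈ 𝔠.minimalPrimes ∧ p.height = c := by
    intro p
    simp [T]
  let Qf : Ideal (MvPolynomial (Fin (n + 1)) K) → ℚ[X] := fun p =>
    if h : p.IsHomogeneous (CohB1.polyGrading n K) then (exists_isHilb p h).choose else 0
  have hQf : ∀ p : Ideal (MvPolynomial (Fin (n + 1)) K),
      p.IsHomogeneous (CohB1.polyGrading n K) → IsHilb p (Qf p) := by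
    intro p h
    simp only [Qf, dif_pos h]
    exact (exists_isHilb p h).choose_spec
  have hTprime : ∀ p ∈ T, p.IsPrime := fun p hp => ((hT p).mp hp).1.1.1
  have hThom : ∀ p ∈ T, p.IsHomogeneous (CohB1.polyGrading n K) := fun p hp =>
    isHomogeneous_of_mem_minimalPrimes h𝔠 ((hT p).mp hp).1
  have h2 : ∀ p ∈ T, IsHilb p (Qf p) := fun p hp => hQf p (hThom p hp)
  have h3 : ∀ p ∈ T, (Qf p).natDegree ≤ n - c := by
    intro p hp
    haveI := hTprime p hp
    exact (degree_bound p (hThom p hp) (Qf p) (h2 p hp) c hcn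
      (by rw [((hT p).mp hp).2])).1
  have h4 : ∀ 𝔞 : Ideal (MvPolynomial (Fin (n + 1)) K), 𝔠 ≤ 𝔞 →
      ∀ q : Ideal (MvPolynomial (Fin (n + 1)) K), q.IsPrime →
      q.IsHomogeneous (CohB1.polyGrading n K) → 𝔞 ≤ q → q ∉ T →
      ∀ ℓ, Asym (hqs q ℓ) (n - c) 0 := by
    intro 𝔞 h𝔞 q hq hqH h𝔞q hqT ℓ
    haveI := hq
    have hcq : (c : ℕ∞) ≤ q.height := by
      rw [← h𝔠c]
      exact Ideal.height_mono (h𝔞.trans h𝔞q)
    have hlt : (c : ℕ∞) < q.height := by
      refine lt_of_le_of_ne hcq (fun heq => hqT ?_)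
      rw [hT]
      refine ⟨⟨⟨hq, h𝔞.trans h𝔞q⟩, ?_⟩, heq.symm⟩
      rintro q' ⟨hq', h𝔠q'⟩ hq'q
      by_contra hnle
      have hlt' : q' < q := lt_of_le_of_ne hq'q (fun h => hnle (h ▸ le_rfl))
      haveI := hq'
      have h1 : q'.height < q.height := Ideal.height_strict_mono_of_isPrime hlt'
      have h2 : (c : ℕ∞) ≤ q'.height := by
        rw [← h𝔠c]
        exact Ideal.height_mono h𝔠q'
      rw [← heq] at h1
      exact absurd h2 (not_le.mpr h1)
    obtain ⟨hd1, hd2⟩ := degree_bound q hqH (Qf q) (hQf q hqH) c hcn hcq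
    have := (hQf q hqH).asym_hqs ℓ (n - c) hd1
    rwa [hd2 hlt] at this
  have h5 : ∀ 𝔞 : Ideal (MvPolynomial (Fin (n + 1)) K), 𝔠 ≤ 𝔞 → ∀ p ∈ T,
      ∀ q : Ideal (MvPolynomial (Fin (n + 1)) K), q.IsPrime → 𝔞 ≤ q → q ≤ p → q = p := by
    intro 𝔞 h𝔞 p hp q hq h𝔞q hqp
    exact le_antisymm hqp (((hT p).mp hp).1.2 ⟨hq, h𝔞.trans h𝔞q⟩ hqp)
  have f𝔠 := coeff_formula 𝔠 h𝔠 (n - c) T Qf hTprime h2 h3 (h4 𝔠 le_rfl) (h5 𝔠 le_rfl) p𝔠 hp𝔠
  have fI := coeff_formula I hI (n - c) T Qf hTprime h2 h3 (h4 I h𝔠I) (h5 I h𝔠I) pI hpI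
  have fJ := coeff_formula _ hJ (n - c) T Qf hTprime h2 h3 (h4 _ h𝔠J) (h5 _ h𝔠J) pJ hpJ
  have hl : ∀ p ∈ T, (lamN p 𝔠 : ℚ) =
      lamN p I + lamN p (𝔠.colon (I : Set (MvPolynomial (Fin (n + 1)) K))) := by
    intro p hp
    haveI := hTprime p hp
    obtain ⟨e1, e2⟩ := length_localized_colon_add (MvPolynomial (Fin (n + 1)) K) 𝔠 p I h𝔠I
      ((hT p).mp hp).1
    have e1' : lam p 𝔠 = lam p I + lam p (𝔠.colon (I : Set (MvPolynomial (Fin (n + 1)) K))) := e1
    have e2' : lam p 𝔠 ≠ ⊤ := e2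
    rw [e1'] at e2'
    obtain ⟨ha, hb⟩ := WithTop.add_ne_top.mp e2'
    rw [lamN_eq, lamN_eq, lamN_eq, e1', ENat.toNat_add ha hb]
    push_cast
    rfl
  rw [f𝔠, fI, fJ, ← Finset.sum_sub_distrib]
  apply Finset.sum_congr rfl
  intro p hp
  rw [hl p hp]
  ring

end Main

end Groth.Agent.Lib.Helper6.ProjDeg
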