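import Mathlib
import Groth.Agent.Lib.Helper6.ProjDeg.PDi

set_option autoImplicit false
set_option linter.unusedSectionVars false
set_option linter.unusedVariables false
set_option linter.unusedSimpArgs false
set_option linter.style.haveILetI false
set_option maxHeartbeats 400000

/-!
# The Hilbert polynomial of a proper quotient of a polynomial ring has small degree
-/

universe u

noncomputable section

namespace Groth.Agent.Lib.Helper6.ProjDeg

open Polynomial

variable {K : Type u} [Field K] {n : ℕ}

theorem exists_isHilb_degree_lt (I : Ideal (MvPolynomial (Fin (n + 1)) K))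
    (hI : I.IsHomogeneous (CohB1.polyGrading n K)) (hne : I ≠ ⊥) :
    ∃ P : ℚ[X], IsHilb I P ∧ P.degree < (n : WithBot ℕ) := by
  obtain ⟨P, hP⟩ := exists_isHilb I hI
  refine ⟨P, hP, ?_⟩
  by_cases hP0 : P = 0
  · rw [hP0, degree_zero]
    exact WithBot.bot_lt_coe _
  · have h1 := Groth.Agent.S10907.result K n I hI P hP0 hP
    obtain ⟨f, hfI, hf0⟩ := Submodule.exists_mem_ne_zero_of_ne_bot hne
    have h2 : ringKrullDim (MvPolynomial (Fin (n + 1)) K ⧸ I) + 1 ≤
        ringKrullDim (MvPolynomial (Fin (n + 1)) K) :=
      ringKrullDim_succ_le_of_surjective (Ideal.Quotient.mk I) Ideal.Quotient.mk_surjective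
        (mem_nonZeroDivisors_of_ne_zero hf0) (Ideal.Quotient.eq_zero_iff_mem.mpr hfI)
    rw [h1, ringKrullDim_mvPoly] at h2
    have h3 : P.natDegree + 1 + 1 ≤ n + 1 := by exact_mod_cast h2
    rw [degree_eq_natDegree hP0]
    exact_mod_cast (by omega : P.natDegree < n)

end Groth.Agent.Lib.Helper6.ProjDeg
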