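import Mathlib
import Groth.Agent.Lib.Helper6.ProjDeg.PDj
import Groth.Agent.Lib.Helper6.HilbDim.HDd

set_option autoImplicit false
set_option linter.unusedSectionVars false
set_option linter.unusedVariables false
set_option linter.unusedSimpArgs false
set_option linter.style.haveILetI false
set_option maxHeartbeats 400000

/-!
# A lower bound for the Hilbert function of a homogeneous prime
-/

universe u

noncomputable section

namespace Groth.Agent.Lib.Helper6.ProjDeg

open MvPolynomial

section Count

variable (k : Type u) [Field k] (r : ℕ)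

/-- there are at least `multichoose r t` independent forms of degree `t` in `r` variables -/
theorem multichoose_le_finrank (t : ℕ) :
    Nat.multichoose r t ≤ Module.finrank k (homogeneousSubmodule (Fin r) k t) := by
  classical
  set D : Finset (Fin r →₀ ℕ) := (Finset.univ : Finset (Fin r)).finsuppAntidiag t with hD
  have hcard : D.card = Nat.multichoose r t := by
    rw [hD, Finset.card_finsuppAntidiag_nat_eq_multichoose, Finset.card_univ, Fintype.card_fin]
  have hmem : ∀ d ∈ D, (monomial d (1 : k)) ∈ homogeneousSubmodule (Fin r) k t := by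
    intro d hd
    rw [hD, Finset.mem_finsuppAntidiag] at hd
    rw [mem_homogeneousSubmodule]
    apply isHomogeneous_monomial
    rw [Finsupp.degree_eq_sum]
    exact hd.1
  let v : D → homogeneousSubmodule (Fin r) k t := fun d => ⟨monomial d.1 (1 : k), hmem d.1 d.2⟩
  have hli : LinearIndependent k v := by
    apply LinearIndependent.of_comp (homogeneousSubmodule (Fin r) k t).subtype
    have h1 := (basisMonomials (Fin r) k).linearIndependent.comp
      (Subtype.val : D → (Fin r →₀ ℕ)) Subtype.val_injective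
    convert h1 using 1
    funext d
    rfl
  haveI : Module.Finite k (homogeneousSubmodule (Fin r) k t) :=
    Module.Finite.iff_fg.mpr (homogeneousSubmodule_fg (Fin r) k t)
  have := hli.fintype_card_le_finrank
  rw [Fintype.card_coe, hcard] at this
  exact this

theorem le_choose_of_le (n j : ℕ) (hj : 1 ≤ j) (hjn : j + 1 ≤ n) : n ≤ Nat.choose n j := by
  induction n generalizing j with
  | zero => omega
  | succ n ih =>
    obtain ⟨j', rfl⟩ : ∃ j', j = j' + 1 := ⟨j - 1, by omega⟩
    rw [Nat.choose_succ_succ']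
    rcases Nat.eq_zero_or_pos j' with h0 | hpos
    · subst h0
      simp
    · rcases Nat.lt_or_ge (j' + 1 + 1) (n + 1) with h | h
      · have h1 := ih (j' + 1) (by omega) (by omega)
        have h2 : 1 ≤ Nat.choose n j' := Nat.choose_pos (by omega)
        omega
      · have hjn' : j' + 1 = n := by omega
        rw [← hjn', Nat.choose_self, Nat.choose_succ_self_right]

end Count

section Bound

variable {k : Type u} [Field k] {m : ℕ}

/-- **Lower bound for the Hilbert function** of a homogeneous prime with quotient of dimension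
`e`: it is at least that of a polynomial ring in `e` variables. -/
theorem multichoose_le_hq (p : Ideal (MvPolynomial (Fin (m + 1)) k)) [hp : p.IsPrime]
    (hpH : p.IsHomogeneous (CohB1.polyGrading m k)) (e : ℕ)
    (he : ringKrullDim (MvPolynomial (Fin (m + 1)) k ⧸ p) = e) (t : ℕ) :
    (Nat.multichoose e t : ℚ) ≤ hq p t := by
  classical
  have hp' := Groth.Agent.Lib.Helper6.HilbDim.isHomogeneous_stdGr hpH
  letI := Groth.Agent.Lib.Helper6.HilbDim.gradedAlgebra (GrSyz.stdGr k (Fin (m + 1))) p hp'
  obtain ⟨n', htr, hdim⟩ := Groth.Agent.Lib.Helper4.DimFT1.exists_dim_eq_trdeg k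
    (MvPolynomial (Fin (m + 1)) k ⧸ p)
  have hn' : n' = e := by
    rw [he] at hdim
    exact_mod_cast hdim.symm
  subst hn'
  set s : Set (MvPolynomial (Fin (m + 1)) k ⧸ p) :=
    Set.range (fun i : Fin (m + 1) => Ideal.Quotient.mk p (X i)) with hs
  have hadj : Algebra.adjoin k s = ⊤ := by
    have h1 : Algebra.adjoin k (Set.range (X : Fin (m + 1) → MvPolynomial (Fin (m + 1)) k)) = ⊤ :=
      MvPolynomial.adjoin_range_X
    have h2 := congrArg (Subalgebra.map (Ideal.Quotient.mkₐ k p)) h1
    rw [AlgHom.map_adjoin, Algebra.map_top, ← Set.range_comp] at h2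
    rw [(AlgHom.range_eq_top _).mpr (Ideal.Quotient.mkₐ_surjective k p)] at h2
    exact h2
  haveI : Algebra.IsAlgebraic (Algebra.adjoin k s) (MvPolynomial (Fin (m + 1)) k ⧸ p) := by
    constructor
    intro a
    have ha : a ∈ Algebra.adjoin k s := by
      rw [hadj]
      trivial
    exact isAlgebraic_algebraMap (⟨a, ha⟩ : Algebra.adjoin k s)
  obtain ⟨T, hTs, hT⟩ := exists_isTranscendenceBasis_subset (R := k) s
  have hcardT : Cardinal.mk T = (n' : Cardinal) := by
    rw [hT.cardinalMk_eq_trdeg, htr]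
  obtain ⟨eqv⟩ := Cardinal.mk_eq_nat_iff.mp hcardT
  set θ : Fin n' → (MvPolynomial (Fin (m + 1)) k ⧸ p) := fun i => ((eqv.symm i : T) : _) with hθ
  have hind : AlgebraicIndependent k θ := hT.1.comp eqv.symm eqv.symm.injective
  have hθmem : ∀ i, θ i ∈ Groth.Agent.Lib.Helper6.HilbDim.qGr p ((1 : ℕ) : ℤ) := by
    intro i
    obtain ⟨j, hj⟩ := hTs (eqv.symm i).2
    rw [hθ]
    simp only
    rw [← hj]
    refine Groth.Agent.Lib.Helper6.HilbDim.mk_mem_gr _ _ ?_
    rw [Groth.Agent.Lib.Helper6.HilbDim.stdGr_nat]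
    exact isHomogeneous_X k j
  haveI hfin : Module.Finite k (Groth.Agent.Lib.Helper6.HilbDim.qGr p ((t * 1 : ℕ) : ℤ)) := by
    rw [Module.Finite.iff_fg]
    unfold Groth.Agent.Lib.Helper6.HilbDim.qGr Groth.Agent.Lib.Helper6.HilbDim.gr
    rw [Groth.Agent.Lib.Helper6.HilbDim.stdGr_nat]
    exact (homogeneousSubmodule_fg (Fin (m + 1)) k _).map _
  have h1 := Groth.Agent.Lib.Helper6.HilbDim.finrank_le_of_algebraicIndependent
    (𝒜 := Groth.Agent.Lib.Helper6.HilbDim.qGr p) (e := 1) hθmem hind t
  have h2 := multichoose_le_finrank k n' t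
  have h3 := Groth.Agent.Lib.Helper6.HilbDim.finrank_qGr p t
  rw [mul_one] at h1
  have h4 : ((Module.finrank k (Groth.Agent.Lib.Helper6.HilbDim.qGr p (t : ℤ)) : ℤ) : ℚ) =
      hq p t := by
    rw [h3]
    push_cast
    rfl
  rw [← h4]
  exact_mod_cast h2.trans h1

/-- the statement for ideals with prime radical -/
theorem finrank_forms_bound (d : ℕ) (hd : 1 ≤ d) (hdm : d + 1 ≤ m)
    (I : Ideal (MvPolynomial (Fin (m + 1)) k)) (hI : I.IsHomogeneous (CohB1.polyGrading m k))
    (hirr : I.radical.IsPrime)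
    (hdim : ringKrullDim (MvPolynomial (Fin (m + 1)) k ⧸ I) = ((m + 1 - d : ℕ) : WithBot ℕ∞)) :
    ((m + 1 : ℕ) : ℚ) ≤ hq I (d + 1) := by
  haveI := hirr
  have hrH : I.radical.IsHomogeneous (CohB1.polyGrading m k) := hI.radical
  have hdimr : ringKrullDim (MvPolynomial (Fin (m + 1)) k ⧸ I.radical) =
      ((m + 1 - d : ℕ) : WithBot ℕ∞) := by
    rw [← hdim, ringKrullDim_quotient, ringKrullDim_quotient, PrimeSpectrum.zeroLocus_radical]
  have h1 := multichoose_le_hq I.radical hrH (m + 1 - d) hdimr (d + 1)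
  have h2 : hq I.radical (d + 1) ≤ hq I (d + 1) := hq_anti Ideal.le_radical (d + 1)
  have h3 : m + 1 ≤ Nat.multichoose (m + 1 - d) (d + 1) := by
    rw [Nat.multichoose_eq]
    have e1 : m + 1 - d + (d + 1) - 1 = m + 1 := by omega
    rw [e1]
    exact le_choose_of_le (m + 1) (d + 1) (by omega) (by omega)
  have h4 : ((m + 1 : ℕ) : ℚ) ≤ (Nat.multichoose (m + 1 - d) (d + 1) : ℚ) := by exact_mod_cast h3
  linarith

end Bound

end Groth.Agent.Lib.Helper6.ProjDeg
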